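import Cfsg.Agent.Lib.CoreKill.Fail.Twin.Defs

/-!
In case (B) no member is central in `P` and all members are conjugate.

Blueprint: `blueprint/bender/CoreKill.md`, 4 (B).
-/

set_option autoImplicit false
set_option linter.unusedSectionVars false
set_option linter.style.haveILetI false

universe u

namespace CfsgLib.CoreKill.Local

open Cfsg MulAction
open CfsgLib.Bender.TwoClosed (IsInv)
open CfsgLib.Bender.Assembly (fix_iff)

variable {X : Type u} [Group X] [Finite X] {H : Subgroup X} {P : Sylow 2 X} {t : X} {R C : Subgroup X}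

namespace Twin

variable (h : Pt H P t) (T : Twin H P t R C)
include h T

theorem nontriv {r : X} (hr : r * r = t) : r ≠ 1 ∧ r ≠ t :=
  ⟨fun e => h.inv.1 (by rw [← hr, e, one_mul]), fun e => h.inv.1 (hr.symm.trans (by rw [e, h.inv.2]))⟩

/-- An element of square `t` of `R` has an anticommuting partner. -/
theorem partner {r : X} (hr : r ∈ R) (hr1 : r ≠ 1) (hrt : r ≠ t) :
    ∃ r' ∈ R, r' ≠ 1 ∧ r' ≠ t ∧ r' ≠ r ∧ r' ≠ r * t ∧ r * r' = r' * r * t := by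
  obtain ⟨r', hr', h1, h2, h3, h4⟩ : ∃ r' ∈ R, r' ≠ 1 ∧ r' ≠ t ∧ r' ≠ r ∧ r' ≠ r * t := by
    by_contra hno
    push Not at hno
    have hsub : (R : Set X) ⊆ {1, t, r, r * t} := fun b hb => by
      by_contra hb'
      simp only [Set.mem_insert_iff, Set.mem_singleton_iff, not_or] at hb'
      exact hb'.2.2.2 (hno b hb hb'.1 hb'.2.1 hb'.2.2.1)
    have h2 := Set.ncard_le_ncard hsub (Set.toFinite _)
    rw [← Nat.card_coe_set_eq] at h2
    have h3 : Set.ncard ({1, t, r, r * t} : Set X) ≤ 4 := by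
      refine (Set.ncard_insert_le _ _).trans (Nat.succ_le_succ ((Set.ncard_insert_le _ _).trans
        (Nat.succ_le_succ ((Set.ncard_insert_le _ _).trans (Nat.succ_le_succ ?_)))))
      rw [Set.ncard_singleton]
    have h4 : Nat.card R = Nat.card (R : Set X) := rfl
    have h5 := T.card
    omega
  exact ⟨r', hr', h1, h2, h3, h4, T.anti r hr r' hr' hr1 hrt h1 h2 h3 h4⟩

/-- No member is central in `P`. -/
theorem noCentral : ∀ v ∈ (P : Subgroup X), IsInv v → v ≠ t → ∃ x ∈ (P : Subgroup X), ¬ Commute v x := by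
  intro v hvP hv hvt
  by_contra hcon
  push Not at hcon
  obtain ⟨r, hr, c, hc, e, hr2, -⟩ := T.member v hvP hv hvt (Comp.mem_normalizer_of_maps fun x hx => by
    rw [(hcon x (T.R_le hx)).eq, mul_inv_cancel_right]; exact hx)
  obtain ⟨r', hr', -, -, -, -, hanti⟩ := T.partner h hr (T.nontriv h hr2).1 (T.nontriv h hr2).2
  have h1 : Commute v r' := hcon r' (T.R_le hr')
  rw [e] at h1
  have h2 : Commute r r' := by
    have h3 := h1.mul_left (T.comm c hc r' hr').inv_left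
    rwa [mul_inv_cancel_right] at h3
  rw [h2.eq] at hanti
  exact h.inv.1 (mul_eq_left.mp hanti.symm)

/-- Changing the part in `R`. -/
theorem move_R {r r' c : X} (hr : r ∈ R) (hr2 : r * r = t) (hr' : r' ∈ R) (hr'2 : r' * r' = t) (hc : c ∈ C) :
    ∃ k : X, k * (r * c) * k⁻¹ = r' * c := by
  obtain ⟨k, -, hkC, -, e⟩ := T.trans r hr r' hr' (T.nontriv h hr2).1 (T.nontriv h hr2).2 (T.nontriv h hr'2).1
    (T.nontriv h hr'2).2
  have hk : ∀ x : X, k * r * k⁻¹ = x → k * (r * c) * k⁻¹ = x * c := fun x hx => by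
    rw [show k * (r * c) * k⁻¹ = k * r * k⁻¹ * (k * c * k⁻¹) by group, hx, (hkC c hc).eq, mul_inv_cancel_right]
  rcases e with e | e
  · exact ⟨k, hk r' e⟩
  obtain ⟨r₁, hr₁, -, -, -, -, hanti⟩ := T.partner h hr' (T.nontriv h hr'2).1 (T.nontriv h hr'2).2
  refine ⟨r₁ * k, ?_⟩
  rw [show r₁ * k * (r * c) * (r₁ * k)⁻¹ = r₁ * (k * (r * c) * k⁻¹) * r₁⁻¹ by group, hk _ e,
    show r₁ * (r' * t * c) * r₁⁻¹ = r₁ * r' * t * (c * r₁⁻¹) by group, ← hanti, (T.comm c hc r₁ hr₁).inv_right.eq]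
  group

/-- All products of elements of square `t` of `R` and `C` are conjugate. -/
theorem move {r r' c c' : X} (hr : r ∈ R) (hr2 : r * r = t) (hr' : r' ∈ R) (hr'2 : r' * r' = t) (hc : c ∈ C)
    (hc2 : c * c = t) (hc' : c' ∈ C) (hc'2 : c' * c' = t) : ∃ k : X, k * (r * c) * k⁻¹ = r' * c' := by
  obtain ⟨g, -, hRC, hCR⟩ := T.swap
  have hsq : ∀ {x : X}, x * x = t → g * x * g⁻¹ * (g * x * g⁻¹) = t := fun {x} hx => by
    rw [show g * x * g⁻¹ * (g * x * g⁻¹) = g * (x * x) * g⁻¹ by group, hx, (h.central g).eq, mul_inv_cancel_right]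
  obtain ⟨k₁, e₁⟩ := T.move_R h hr hr2 hr' hr'2 hc
  obtain ⟨k₂, e₂⟩ := T.move_R h (r := g * c * g⁻¹) (r' := g * c' * g⁻¹) (c := g * r' * g⁻¹) ((hCR c).mp hc) (hsq hc2)
    ((hCR c').mp hc') (hsq hc'2) ((hRC r').mp hr')
  have hswap : ∀ a b : X, b ∈ C → a ∈ R → g * (a * b) * g⁻¹ = g * b * g⁻¹ * (g * a * g⁻¹) := fun a b hb ha => by
    rw [← (T.comm b hb a ha).eq]; group
  refine ⟨g⁻¹ * k₂ * g * k₁, ?_⟩
  calc g⁻¹ * k₂ * g * k₁ * (r * c) * (g⁻¹ * k₂ * g * k₁)⁻¹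
      = g⁻¹ * (k₂ * (g * (k₁ * (r * c) * k₁⁻¹) * g⁻¹) * k₂⁻¹) * g := by group
    _ = g⁻¹ * (g * (r' * c') * g⁻¹) * g := by rw [e₁, hswap r' c hc hr', e₂, hswap r' c' hc' hr']
    _ = r' * c' := by group

/-- All members are conjugate. -/
theorem oneClass :
    ∀ u v : X, IsInv u → u ≠ t → IsInv v → v ≠ t → ∃ g : X, g * u * g⁻¹ = v := by
  haveI : Fact (Nat.Prime 2) := ⟨Nat.prime_two⟩
  obtain ⟨g, -, hRC, -⟩ := T.swap
  obtain ⟨r₀, hr₀, hr₀2⟩ : ∃ r ∈ R, r * r = t := by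
    by_contra hno
    push Not at hno
    have hsub : (R : Set X) ⊆ {1, t} := fun b hb => by
      by_contra hb'
      simp only [Set.mem_insert_iff, Set.mem_singleton_iff, not_or] at hb'
      exact hno b hb (T.sq b hb hb'.1 hb'.2)
    have h2 := Set.ncard_le_ncard hsub (Set.toFinite _)
    rw [← Nat.card_coe_set_eq, Set.ncard_pair h.inv.1.symm] at h2
    have h4 : Nat.card R = Nat.card (R : Set X) := rfl
    have h5 := T.card
    omega
  set c₀ := g * r₀ * g⁻¹ with hc₀def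
  have hc₀ : c₀ ∈ C := (hRC r₀).mp hr₀
  have hc₀2 : c₀ * c₀ = t := by
    rw [hc₀def, show g * r₀ * g⁻¹ * (g * r₀ * g⁻¹) = g * (r₀ * r₀) * g⁻¹ by group, hr₀2, (h.central g).eq,
      mul_inv_cancel_right]
  have htC : t ∈ C := hc₀2 ▸ mul_mem hc₀ hc₀
  set m₀ := r₀ * c₀ with hm₀
  have hm₀i : IsInv m₀ := by
    refine ⟨fun e => ?_, by rw [hm₀, (T.comm c₀ hc₀ r₀ hr₀).mul_mul_mul_comm, hr₀2, hc₀2, h.inv.2]⟩
    have h1 : r₀ ∈ C := by rw [eq_inv_of_mul_eq_one_left e]; exact inv_mem hc₀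
    exact (T.inter r₀ hr₀ h1).elim (T.nontriv h hr₀2).1 (T.nontriv h hr₀2).2
  have hm₀t : m₀ ≠ t := fun e => by
    have h1 : r₀ ∈ C := by rw [eq_mul_inv_of_mul_eq e]; exact mul_mem htC (inv_mem hc₀)
    exact (T.inter r₀ hr₀ h1).elim (T.nontriv h hr₀2).1 (T.nontriv h hr₀2).2
  have hm₀H : m₀ ∈ H := h.P_le (mul_mem (T.R_le hr₀) (T.C_le hc₀))
  suffices key : ∀ u ∈ H, IsInv u → u ≠ t → ∃ k : X, k * u * k⁻¹ = m₀ by
    intro u v hu hut hv hvt
    obtain ⟨a, ha⟩ := h.exists_conj hu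
    obtain ⟨b, hb⟩ := h.exists_conj hv
    obtain ⟨k, hk⟩ := key _ (h.P_le ha) (hu.conj a) (h.ne_conj hut a)
    obtain ⟨l, hl⟩ := key _ (h.P_le hb) (hv.conj b) (h.ne_conj hvt b)
    refine ⟨(l * b)⁻¹ * (k * a), ?_⟩
    calc (l * b)⁻¹ * (k * a) * u * ((l * b)⁻¹ * (k * a))⁻¹
        = (l * b)⁻¹ * (k * (a * u * a⁻¹) * k⁻¹) * (l * b) := by group
      _ = (l * b)⁻¹ * (l * (b * v * b⁻¹) * l⁻¹) * (l * b) := by rw [hk, hl]
      _ = v := by group
  intro u huH hu hut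
  obtain ⟨n, -, hn⟩ := SetLike.exists_of_lt (lt_top_iff_ne_top.mpr h.ne_top)
  set v := n * m₀ * n⁻¹ with hv
  have hvi : IsInv v := hm₀i.conj n
  have hvfix : v • ((n : X) : X ⧸ H) = ((n : X) : X ⧸ H) :=
    fix_iff.mpr (by rw [hv, show n⁻¹ * (n * m₀ * n⁻¹) * n = m₀ by group]; exact hm₀H)
  have hvt : v ≠ t := h.ne_conj hm₀t n
  clear_value v
  -- conjugates of `m₀`
  have hback : ∀ k : X, k * u * k⁻¹ = v → ∃ k' : X, k' * u * k'⁻¹ = m₀ := fun k hk => ⟨n⁻¹ * k, by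
    calc n⁻¹ * k * u * (n⁻¹ * k)⁻¹ = n⁻¹ * (k * u * k⁻¹) * n := by group
      _ = m₀ := by rw [hk, hv]; group⟩
  have hodd : ∀ v' : X, IsInv v' → Odd (orderOf (u * v')) → ∃ k : X, k * u * k⁻¹ = v' := by
    intro v' hv' ho
    obtain ⟨l, hl⟩ := ho
    set w := u * v' with hw
    have hinv : u * w * u⁻¹ = w⁻¹ := by
      rw [hw, hu.inv, mul_inv_rev, hu.inv, hv'.inv, ← mul_assoc, hu.2, one_mul]
    refine ⟨w ^ l, ?_⟩
    have e1 : u * (w ^ l)⁻¹ = w ^ l * u := by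
      have h1 : u * w ^ l * u⁻¹ = (w ^ l)⁻¹ := by rw [← conj_pow, hinv, inv_pow]
      calc u * (w ^ l)⁻¹ = u * (u * w ^ l * u⁻¹) := by rw [h1]
        _ = w ^ l * u := by rw [← mul_assoc, ← mul_assoc, hu.2, one_mul, hu.inv]
    have hlast : w ^ (l + l) = v' * u := by
      have h1 : w * w ^ (l + l) = 1 := by rw [← pow_succ', ← two_mul, ← hl, pow_orderOf_eq_one]
      rw [← inv_eq_of_mul_eq_one_right h1, hw, mul_inv_rev, hv'.inv, hu.inv]
    calc w ^ l * u * (w ^ l)⁻¹ = w ^ (l + l) * u := by rw [mul_assoc, e1, ← mul_assoc, ← pow_add]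
      _ = v' := by rw [hlast, mul_assoc, hu.2, mul_one]
  rcases Nat.even_or_odd (orderOf (u * v)) with ⟨l, hl⟩ | ho
  swap
  · obtain ⟨k, hk⟩ := hodd v hvi ho
    exact hback k hk
  set w := u * v with hw
  have hinvu : u * w * u⁻¹ = w⁻¹ := by
    rw [hw, hu.inv, mul_inv_rev, hu.inv, hvi.inv, ← mul_assoc, hu.2, one_mul]
  have hinvv : v * w * v⁻¹ = w⁻¹ := by
    rw [hw, hvi.inv, mul_inv_rev, hu.inv, hvi.inv, mul_assoc, mul_assoc, hvi.2, mul_one]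
  have hw0 : 0 < orderOf w := orderOf_pos w
  have hwl2 : IsInv (w ^ l) :=
    ⟨pow_ne_one_of_lt_orderOf (by omega) (by omega), by rw [← pow_add, ← hl, pow_orderOf_eq_one]⟩
  have hubase : u • base H = base H := fix_base.mpr huH
  have hne : ((n : X) : X ⧸ H) ≠ base H := fun e => hn (by simpa using QuotientGroup.eq.mp e.symm)
  have hwl : w ^ l = t := by
    by_contra hne'
    obtain ⟨c, hc⟩ := (h.one_fix hwl2 hne').exists
    have hcomm : ∀ z : X, z * w * z⁻¹ = w⁻¹ → z * w ^ l = w ^ l * z := fun z hz => by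
      have h1 : z * w ^ l * z⁻¹ = w ^ l := by rw [← conj_pow, hz, inv_pow, hwl2.inv]
      exact mul_inv_eq_iff_eq_mul.mp h1
    have hcu := h.commute_fix hwl2 hne' hc (hcomm u hinvu)
    have hcv := h.commute_fix hwl2 hne' hc (hcomm v hinvv)
    exact hne ((h.eq_of_fix hvi hvt hcv hvfix).symm.trans (h.eq_of_fix hu hut hcu hubase))
  rcases Nat.even_or_odd l with ⟨j, hj⟩ | hlo
  swap
  · -- `u v t` has odd order
    have hv'i : IsInv (v * t) := ⟨fun e => hvt ((eq_inv_of_mul_eq_one_left e).trans h.inv.inv),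
      by rw [(h.central v).symm.mul_mul_mul_comm, hvi.2, h.inv.2, one_mul]⟩
    have hpow : (u * (v * t)) ^ l = 1 := by
      rw [← mul_assoc, (h.central w).mul_pow, hwl]
      obtain ⟨i, hi⟩ := hlo
      rw [hi, pow_succ, pow_mul, pow_two, h.inv.2, one_pow, one_mul, h.inv.2]
    obtain ⟨k, hk⟩ := hodd (v * t) hv'i (hlo.of_dvd_nat (orderOf_dvd_of_pow_eq_one hpow))
    obtain ⟨k', hk'⟩ := T.move h hr₀ hr₀2 hr₀ hr₀2 (c := c₀ * t) (c' := c₀) (mul_mem hc₀ htC)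
      (by rw [(h.central c₀).symm.mul_mul_mul_comm, hc₀2, h.inv.2, mul_one]) hc₀ hc₀2
    refine ⟨k' * (n⁻¹ * k), ?_⟩
    have hnt : n⁻¹ * (v * t) * n = r₀ * (c₀ * t) := by
      rw [hv, mul_assoc n⁻¹, mul_assoc (n * m₀ * n⁻¹), ← (h.central n).eq, hm₀]
      group
    calc k' * (n⁻¹ * k) * u * (k' * (n⁻¹ * k))⁻¹ = k' * (n⁻¹ * (k * u * k⁻¹) * n) * k'⁻¹ := by group
      _ = m₀ := by rw [hk, hnt, hk', hm₀]
  -- an element of square `t` fixing both points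
  set r := w ^ j with hr
  have hr2 : r * r = t := by rw [hr, ← pow_add, ← hj, hwl]
  have hru : u * r * u⁻¹ = r⁻¹ := by rw [hr, ← conj_pow, hinvu, inv_pow]
  have hrv : v * r * v⁻¹ = r⁻¹ := by rw [hr, ← conj_pow, hinvv, inv_pow]
  have hfix : ∀ (z : X) (c : X ⧸ H), IsInv z → z ≠ t → z * r * z⁻¹ = r⁻¹ → z • c = c → r • c = c := by
    intro z c hz hzt hzr hzc
    refine h.eq_of_fix hz hzt ?_ hzc
    rw [← mul_smul, mul_inv_eq_iff_eq_mul.mp hzr, mul_smul, hzc, h.inv_eq_mul hr2, mul_smul, h.t_fix]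
  have hrH : r ∈ H := fix_base.mp (hfix u _ hu hut hru hubase)
  have hrn : n⁻¹ * r * n ∈ H := fix_iff.mp (hfix v _ hvi hvt hrv hvfix)
  -- move into `P`
  have hU : IsPGroup 2 ↥(Subgroup.zpowers r ⊔ Subgroup.zpowers u) := by
    obtain ⟨i, -, hi⟩ := (Nat.dvd_prime_pow Nat.prime_two).mp
      (orderOf_dvd_of_pow_eq_one (show r ^ 2 ^ 2 = 1 by
        rw [show (2 : ℕ) ^ 2 = 2 * 2 from rfl, pow_mul, pow_two r, hr2, pow_two, h.inv.2]))
    refine (IsPGroup.of_card (n := i) (by rw [Nat.card_zpowers, hi])).to_sup_of_normal_left'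
      (CoreKill.zpowers_inv hu) (Subgroup.zpowers_le.mpr (Comp.mem_normalizer_of_maps fun z hz => ?_))
    obtain ⟨k, rfl⟩ := Subgroup.mem_zpowers_iff.mp hz
    rw [← conj_zpow, hru]
    exact zpow_mem (inv_mem (Subgroup.mem_zpowers r)) k
  obtain ⟨a, haH, haP⟩ := Bender.Q.exists_conj_sylow h.P_le hU
    (sup_le (Subgroup.zpowers_le.mpr hrH) (Subgroup.zpowers_le.mpr huH))
  obtain ⟨y, hy⟩ := h.exists_y
  obtain ⟨s, hs, husN⟩ := h.world_of_inverted hy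
    (haP _ (Subgroup.mem_sup_right (Subgroup.mem_zpowers u))) (haP _ (Subgroup.mem_sup_left (Subgroup.mem_zpowers r)))
    (hu.conj a) (h.ne_conj hut a)
    (by rw [show a * r * a⁻¹ * (a * r * a⁻¹) = a * (r * r) * a⁻¹ by group, hr2, (h.central a).eq, mul_inv_cancel_right])
    (by rw [show a * u * a⁻¹ * (a * r * a⁻¹) * (a * u * a⁻¹)⁻¹ = a * (u * r * u⁻¹) * a⁻¹ by group, hru]; group)
    (g₁ := a * n)
    (fun e => hn (by have h1 := mul_mem (inv_mem haH) e; rwa [inv_mul_cancel_left] at h1))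
    (by rw [show (a * n)⁻¹ * (a * r * a⁻¹) * (a * n) = n⁻¹ * r * n by group]; exact hrn)
  obtain ⟨k, hkH, hkR⟩ := T.worlds s hs
  set r₁ := k * s * k⁻¹ with hr₁def
  have hr₁2 : r₁ * r₁ = t := by
    rw [hr₁def, show k * s * k⁻¹ * (k * s * k⁻¹) = k * (s * s) * k⁻¹ by group, hs.sq, (h.central k).eq,
      mul_inv_cancel_right]
  set u₁ := k * (a * u * a⁻¹) * k⁻¹ with hu₁def
  have hu₁N : u₁ ∈ Subgroup.normalizer (Subgroup.zpowers r₁ : Set X) := by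
    refine h.mem_normalizer hr₁2 ?_
    have e0 : u₁ * r₁ * u₁⁻¹ = k * (a * u * a⁻¹ * s * (a * u * a⁻¹)⁻¹) * k⁻¹ := by
      rw [hu₁def, hr₁def]; group
    rcases h.conj_eq hs.sq husN with e | e <;> rw [e0, e]
    · exact Or.inl rfl
    · refine Or.inr ?_
      rw [hr₁def, show k * (s * t) * k⁻¹ = k * s * k⁻¹ * (k * t * k⁻¹) by group, (h.central k).eq,
        mul_inv_cancel_right]
  have hu₁H : u₁ ∈ H := mul_mem (mul_mem hkH (mul_mem (mul_mem haH huH) (inv_mem haH))) (inv_mem hkH)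
  obtain ⟨hW, -, P', hP', hQ⟩ := T.quat h r₁ hkR (T.nontriv h hr₁2).1 (T.nontriv h hr₁2).2
  let u' : ↥(Subgroup.normalizer (Subgroup.zpowers r₁ : Set X)) := ⟨u₁, hu₁N⟩
  have hu'i : IsInv u' := ⟨fun e => ((hu.conj a).conj k).1 (congrArg Subtype.val e),
    Subtype.ext ((hu.conj a).conj k).2⟩
  obtain ⟨b, -, hbP⟩ := Bender.Q.exists_conj_sylow hP' (CoreKill.zpowers_inv hu'i)
    (Subgroup.zpowers_le.mpr (show u' ∈ H.subgroupOf _ from hu₁H))
  have hu't : u' ≠ World.tN h r₁ := fun e => h.ne_conj (h.ne_conj hut a) k (congrArg Subtype.val e)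
  obtain ⟨r₂, hr₂, c₂, hc₂, e, hr₂2, hc₂2⟩ := hQ.member _ (hbP u' (Subgroup.mem_zpowers u')) (hu'i.conj b)
    ((hW.pt h hP').ne_conj hu't b)
  obtain ⟨l, hl⟩ := T.move h (r := (r₂ : X)) (c := (c₂ : X)) hr₂ (congrArg Subtype.val hr₂2) hr₀ hr₀2 hc₂
    (congrArg Subtype.val hc₂2) hc₀ hc₀2
  refine ⟨l * (b : X) * k * a, ?_⟩
  have e' : (b : X) * u₁ * (b : X)⁻¹ = (r₂ : X) * (c₂ : X) := congrArg Subtype.val e
  calc l * (b : X) * k * a * u * (l * (b : X) * k * a)⁻¹ = l * ((b : X) * u₁ * (b : X)⁻¹) * l⁻¹ := by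
        rw [hu₁def]; group
    _ = m₀ := by rw [e', hl]

end Twin

end CfsgLib.CoreKill.Local
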