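import Cfsg.Agent.Lib.CoreKill.Fail.Normal
import Cfsg.Agent.Lib.CoreKill.Fail.Twin.Main
import Cfsg.Agent.Lib.CoreKill.Fail.OneClass
import Cfsg.Agent.Lib.CoreKill.Local.Dichotomy

/-!
The outcome at a bad involution, from balance and rigidity in case (B).

Blueprint: `blueprint/bender/CoreKill.md`, 2 and 4.
-/

set_option autoImplicit false

universe u

namespace CfsgLib.CoreKill.Local

open Cfsg
open CfsgLib.Bender.TwoClosed (IsInv)

variable {X : Type u} [Group X] [Finite X] {H : Subgroup X} {P : Sylow 2 X} {t : X}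

/-- Balance and rigidity of case (B). -/
def TwinCore (H : Subgroup X) (P : Sylow 2 X) (t : X) : Prop :=
  ∀ R C : Subgroup X, Twin H P t R C → (∀ u v : X, IsInv u → u ≠ t → IsInv v → v ≠ t → ∃ g : X, g * u * g⁻¹ = v) →
    (∀ y ∈ (P : Subgroup X), IsInv y → y ≠ t → ∀ A : Subgroup X, Odd (Nat.card A) →
      A ≤ Subgroup.centralizer ({y} : Set X) →
      Subgroup.centralizer ({y} : Set X) ≤ Subgroup.normalizer (A : Set X) → A ≤ oddCore X) ∧
    ∀ y ∈ (P : Subgroup X), IsInv y → y ≠ t → ∀ B : Subgroup X, Odd (Nat.card B) → oddCore X ≤ B →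
      Subgroup.centralizer ({y} : Set X) ≤ Subgroup.normalizer (B : Set X) →
      B ⊓ Subgroup.centralizer ({y} : Set X) ≤ oddCore X → B ≤ oddCore X

/-- The outcome at a bad involution. -/
theorem Pt.localOutcome (h : Pt H P t) (hT : TwinCore H P t) :
    Struct H P t ∨ (Pairs P t ∧ SquaresEq t) ∨ (Wide H P t ∧ Over P t) := by
  obtain ⟨y, hy⟩ := h.exists_y
  by_cases hNF : NF H y
  · rcases h.dichotomy hy hNF with h1 | h1
    · exact Or.inl h1
    · exact Or.inr (Or.inl h1)
  obtain ⟨s, hs⟩ := h.exists_world hy hNF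
  by_cases hno : ∀ r, World H t r → ¬ (P : Subgroup X) ≤ Subgroup.normalizer (Subgroup.zpowers r : Set X)
  · obtain ⟨⟨R, C, T⟩, hO⟩ := h.exists_twin_over hs hno
    have h1 := Twin.oneClass h T
    exact Or.inr (Or.inr ⟨⟨Twin.noCentral h T, h1, (hT R C T h1).1, (hT R C T h1).2⟩, hO⟩)
  · push Not at hno
    obtain ⟨r, hr, hP⟩ := hno
    exact Or.inr (Or.inl (h.pairs_of_normal_world hr hP))

end CfsgLib.CoreKill.Local
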