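import Cfsg.Agent.Lib.CoreKill.Fail.World

/-!
A world normalised by a Sylow subgroup gives pairs and the square condition.

Blueprint: `blueprint/bender/CoreKill.md`, 4 (A).
-/

set_option autoImplicit false
set_option linter.unusedSectionVars false
set_option linter.style.haveILetI false

universe u

namespace CfsgLib.CoreKill.Local

open Cfsg MulAction
open CfsgLib.Bender.TwoClosed (IsInv)

variable {X : Type u} [Group X] [Finite X] {H : Subgroup X} {P : Sylow 2 X} {t y s : X}

/-- In the quaternion outcome every member of `P` centralises two involutions whose product has square `t`. -/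
theorem Quat.pairs {R C : Subgroup X} (hQ : Quat H P t R C) (h : Pt0 H P t) : Pairs P t := by
  intro u huP hu hut
  obtain ⟨r, hrR, c, hcC, rfl, hr2, hc2⟩ := hQ.member u huP hu hut
  obtain ⟨r', hr'R, hr'2, hanti⟩ := hQ.partner r hrR hr2
  have hc1 : c ≠ 1 := fun e => h.inv.1 (by rw [← hc2, e, one_mul])
  have hct : c ≠ t := fun e => h.inv.1 (by rw [← hc2, e, h.inv.2])
  -- an element of `C` anticommuting with `c`
  obtain ⟨d, hdC, hd1, hdt, hdc, hdct⟩ : ∃ d ∈ C, d ≠ 1 ∧ d ≠ t ∧ d ≠ c ∧ d ≠ c * t := by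
    by_contra hno
    push Not at hno
    have hsub : (C : Set X) ⊆ {1, t, c, c * t} := fun b hb => by
      by_contra hb'
      simp only [Set.mem_insert_iff, Set.mem_singleton_iff, not_or] at hb'
      exact hb'.2.2.2 (hno b hb hb'.1 hb'.2.1 hb'.2.2.1)
    have h2 := Set.ncard_le_ncard hsub (Set.toFinite _)
    rw [← Nat.card_coe_set_eq] at h2
    have h3 : Set.ncard ({1, t, c, c * t} : Set X) ≤ 4 := by
      refine (Set.ncard_insert_le _ _).trans (Nat.succ_le_succ ((Set.ncard_insert_le _ _).trans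
        (Nat.succ_le_succ ((Set.ncard_insert_le _ _).trans (Nat.succ_le_succ ?_)))))
      rw [Set.ncard_singleton]
    have h4 : Nat.card C = Nat.card (C : Set X) := rfl
    have h5 := hQ.C_card
    omega
  have hcd : c * d = d * c * t := hQ.C_anti c hcC d hdC hc1 hct hd1 hdt hdc hdct
  have hd2 : d * d = t := hQ.C_sq d hdC hd1 hdt
  -- a product `r' z` with `z ∈ C` of square `t` anticommuting with `c`
  have hkey : ∀ z ∈ C, z * z = t → c * z = z * c * t →
      IsInv (r' * z) ∧ Commute (r' * z) (r * c) := by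
    intro z hzC hz2 hcz
    have hrz : Commute z r' := hQ.C_comm z hzC r' hr'R
    refine ⟨⟨fun e => ?_, ?_⟩, ?_⟩
    · have hzR : z ∈ R := by rw [eq_inv_of_mul_eq_one_right e]; exact inv_mem hr'R
      rcases hQ.C_inf z hzC hzR with e' | e'
      · exact h.inv.1 (by rw [← hz2, e', one_mul])
      · exact h.inv.1 (by rw [← hz2, e', h.inv.2])
    · rw [hrz.mul_mul_mul_comm, hr'2, hz2, h.inv.2]
    · show r' * z * (r * c) = r * c * (r' * z)
      calc r' * z * (r * c) = r' * (z * r) * c := by group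
        _ = r' * (r * z) * c := by rw [(hQ.C_comm z hzC r hrR).eq]
        _ = r' * r * (z * c) := by group
        _ = r' * r * (z * c) * (t * t) := by rw [h.inv.2, mul_one]
        _ = (r' * r * t) * (z * c * t) := by
          rw [show r' * r * (z * c) * (t * t) = r' * r * ((z * c) * t) * t by group, ← hcz,
            show r' * r * t * (c * z) = r' * r * (t * (c * z)) by group, (h.central (c * z)).eq.symm]
          group
        _ = r * r' * (c * z) := by rw [← hanti, ← hcz]
        _ = r * (r' * c) * z := by group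
        _ = r * (c * r') * z := by rw [(hQ.C_comm c hcC r' hr'R).eq]
        _ = r * c * (r' * z) := by group
  have hcd2 : c * d * (c * d) = t := by
    calc c * d * (c * d) = c * d * (d * c * t) := by rw [hcd]
      _ = c * (d * d) * c * t := by group
      _ = c * c * (t * t) := by rw [hd2, mul_assoc c t c, ← (h.central c).eq]; group
      _ = t := by rw [hc2, h.inv.2, mul_one]
  have hccd : c * (c * d) = c * d * c * t := by
    conv_lhs => rw [hcd]
    group
  obtain ⟨hp, hpu⟩ := hkey d hdC hd2 hcd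
  obtain ⟨hq, hqu⟩ := hkey (c * d) (mul_mem hcC hdC) hcd2 hccd
  refine ⟨r' * d, r' * (c * d), hp, hq, hpu, hqu, ?_⟩
  have hprod : r' * d * (r' * (c * d)) = t * c * 1 := by
    rw [(hQ.C_comm d hdC r' hr'R).mul_mul_mul_comm, hr'2]
    calc t * (d * (c * d)) = t * (d * (d * c * t)) := by rw [hcd]
      _ = t * ((d * d) * c * t) := by group
      _ = t * c * 1 := by rw [hd2, mul_assoc t c t, (h.central c).eq, ← mul_assoc t t, h.inv.2, one_mul, mul_one]
  rw [hprod, mul_one, (h.central c).mul_mul_mul_comm, h.inv.2, one_mul, hc2]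

/-- A world normalised by the Sylow subgroup `P`: every member has its pair, and squares of products of two
involutions are `t`. -/
theorem Pt.pairs_of_normal_world (h : Pt H P t) (hW : World H t s)
    (hP : (P : Subgroup X) ≤ Subgroup.normalizer (Subgroup.zpowers s : Set X)) : Pairs P t ∧ SquaresEq t := by
  haveI : Fact (Nat.Prime 2) := ⟨Nat.prime_two⟩
  set P' : Sylow 2 ↥(Subgroup.normalizer (Subgroup.zpowers s : Set X)) := P.subtype hP
  have hP' : (P' : Subgroup _) ≤ H.subgroupOf (Subgroup.normalizer (Subgroup.zpowers s : Set X)) :=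
    fun x hx => h.P_le hx
  obtain ⟨C, hQ⟩ := hW.quat h hP'
  obtain ⟨L, hL⟩ := hW.frame h hP'
  have hinv : ∀ x : ↥(Subgroup.normalizer (Subgroup.zpowers s : Set X)), IsInv x ↔ IsInv (x : X) := fun x =>
    ⟨fun hx => ⟨fun e => hx.1 (Subtype.ext e), congrArg Subtype.val hx.2⟩,
      fun hx => ⟨fun e => hx.1 (congrArg Subtype.val e), Subtype.ext hx.2⟩⟩
  refine ⟨fun u huP hu hut => ?_, fun p q hp hq hw => ?_⟩
  · obtain ⟨p, q, hp, hq, hpu, hqu, hpq⟩ := hQ.pairs (hW.pt h hP') ⟨u, hP huP⟩ huP ((hinv _).mpr hu)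
      (fun e => hut (congrArg Subtype.val e))
    exact ⟨p, q, (hinv p).mp hp, (hinv q).mp hq, congrArg Subtype.val hpu.eq, congrArg Subtype.val hqu.eq,
      congrArg Subtype.val hpq⟩
  · by_contra hwt
    set w := p * q * (p * q) with hwdef
    have hpw : p * w * p⁻¹ = w⁻¹ := by
      rw [hwdef, mul_inv_rev, mul_inv_rev, hp.inv, hq.inv]
      simp only [mul_assoc, ← mul_assoc p p, hp.2, one_mul, mul_one]
    have hwp : w * p = p * w := by
      have h1 := hpw.trans hw.inv
      rw [mul_inv_eq_iff_eq_mul] at h1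
      exact h1.symm
    have hwq : w * q = q * w := by
      have h1 : q * w * q⁻¹ = w⁻¹ := by
        rw [hwdef, mul_inv_rev, mul_inv_rev, hp.inv, hq.inv]
        simp only [mul_assoc, hq.2, mul_one]
      have h2 := h1.trans hw.inv
      rw [mul_inv_eq_iff_eq_mul] at h2
      exact h2.symm
    obtain ⟨c, hc⟩ := (h.one_fix hw hwt).exists
    induction c using QuotientGroup.induction_on with
    | _ g =>
      have hpc := Bender.Assembly.fix_iff.mp (h.commute_fix hw hwt hc hwp.symm)
      have hqc := Bender.Assembly.fix_iff.mp (h.commute_fix hw hwt hc hwq.symm)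
      -- `p`, `q` conjugate into `P`
      set p₁ := g⁻¹ * p * g with hp₁
      set q₁ := g⁻¹ * q * g with hq₁
      have hp₁i : IsInv p₁ := by simpa using hp.conj g⁻¹
      have hq₁i : IsInv q₁ := by simpa using hq.conj g⁻¹
      clear_value p₁ q₁
      have hpq4 : (p₁ * q₁) ^ 2 ^ 2 = 1 := by
        rw [show (2 : ℕ) ^ 2 = 2 * 2 from rfl, pow_mul, pow_two (p₁ * q₁), pow_two,
          show p₁ * q₁ * (p₁ * q₁) * (p₁ * q₁ * (p₁ * q₁)) = g⁻¹ * (w * w) * g by
            rw [hp₁, hq₁, hwdef]; group,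
          hw.2, mul_one, inv_mul_cancel]
      obtain ⟨i, -, hi⟩ := (Nat.dvd_prime_pow Nat.prime_two).mp (orderOf_dvd_of_pow_eq_one hpq4)
      have hU : IsPGroup 2 ↥(Subgroup.zpowers (p₁ * q₁) ⊔ Subgroup.zpowers p₁) := by
        refine (IsPGroup.of_card (n := i) (by rw [Nat.card_zpowers, hi])).to_sup_of_normal_left'
          (CoreKill.zpowers_inv hp₁i) (Subgroup.zpowers_le.mpr (Comp.mem_normalizer_of_maps fun z hz => ?_))
        obtain ⟨k, rfl⟩ := Subgroup.mem_zpowers_iff.mp hz
        rw [← conj_zpow, show p₁ * (p₁ * q₁) * p₁⁻¹ = (p₁ * q₁)⁻¹ by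
          rw [mul_inv_rev p₁ q₁, hq₁i.inv, hp₁i.inv, ← mul_assoc, hp₁i.2, one_mul]]
        exact zpow_mem (inv_mem (Subgroup.mem_zpowers _)) k
      obtain ⟨n, -, hnP⟩ := Bender.Q.exists_conj_sylow h.P_le hU
        (sup_le (Subgroup.zpowers_le.mpr (mul_mem hpc hqc)) (Subgroup.zpowers_le.mpr hpc))
      have hp₂ : n * p₁ * n⁻¹ ∈ (P : Subgroup X) := hnP _ (Subgroup.mem_sup_right (Subgroup.mem_zpowers p₁))
      have hq₂ : n * q₁ * n⁻¹ ∈ (P : Subgroup X) := by
        have h1 := mul_mem hp₂ (hnP _ (Subgroup.mem_sup_left (Subgroup.mem_zpowers (p₁ * q₁))))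
        rwa [show n * p₁ * n⁻¹ * (n * (p₁ * q₁) * n⁻¹) = n * (p₁ * p₁ * q₁) * n⁻¹ by group, hp₁i.2,
          one_mul] at h1
      have hsq : n * p₁ * n⁻¹ * (n * q₁ * n⁻¹) * (n * p₁ * n⁻¹ * (n * q₁ * n⁻¹)) =
          (n * g⁻¹) * w * (n * g⁻¹)⁻¹ := by
        rw [hp₁, hq₁, hwdef]; group
      have h2 := congrArg Subtype.val (hL.squaresEq ⟨_, hP hp₂⟩ ⟨_, hP hq₂⟩ ((hinv _).mpr (hp₁i.conj n))
        ((hinv _).mpr (hq₁i.conj n)) ((hinv _).mpr (by
          show IsInv (n * p₁ * n⁻¹ * (n * q₁ * n⁻¹) * (n * p₁ * n⁻¹ * (n * q₁ * n⁻¹)))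
          rw [hsq]; exact hw.conj _)))
      refine h.ne_conj hwt (n * g⁻¹) ?_
      rw [← hsq]
      exact h2

end CfsgLib.CoreKill.Local
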