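import Cfsg.Agent.Lib.CoreKill.Local.Frame
import Cfsg.Agent.Lib.CoreKill.Local.Dichotomy
import Cfsg.Agent.Lib.PGroup.RankTwoNormal

/-!
An element `s` of square `t` fixing two points: its normalizer `N` is again a setting, without failure for a member
centralising `s`. So it has the quaternion outcome and the points fixed by `s` form the orbit of `N`.

Blueprint: `blueprint/bender/CoreKill.md`, 4.
-/

set_option autoImplicit false
set_option linter.unusedSectionVars false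
set_option linter.style.haveILetI false

universe u

namespace CfsgLib.CoreKill.Local

open Cfsg MulAction
open CfsgLib.Bender.TwoClosed (IsInv)
open CfsgLib.Bender.Assembly (orderOf_two fix_iff)

/-- In a normal subgroup of a 2-group where `s` of square `t` is central, some involution other than `t` has its
conjugates among itself and its product with `t`. -/
theorem exists_small {R : Type u} [Group R] [Finite R] (hR : IsPGroup 2 R) {C : Subgroup R} (hC : C.Normal)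
    {s t a : R} (ht : IsInv t) (hst : s * s = t) (hs : s ∈ C) (hsn : (Subgroup.zpowers s).Normal)
    (htc : ∀ g : R, Commute g t) (hsc : ∀ c ∈ C, Commute c s) (haC : a ∈ C) (ha : IsInv a) (hat : a ≠ t) :
    ∃ u ∈ C, IsInv u ∧ u ≠ t ∧ ∀ g : R, g * u * g⁻¹ = u ∨ g * u * g⁻¹ = u * t := by
  haveI : Fact (Nat.Prime 2) := ⟨Nat.prime_two⟩
  let good : Set (Subgroup R) :=
    {B | B.Normal ∧ Subgroup.zpowers s ≤ B ∧ B ≤ C ∧ ∀ v ∈ B, IsInv v → v = t}
  have hs4 : s ^ 4 = 1 := by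
    rw [show (4 : ℕ) = 2 * 2 from rfl, pow_mul, pow_two s, hst, pow_two, ht.2]
  have hne : good.Nonempty := by
    refine ⟨Subgroup.zpowers s, hsn, le_rfl, Subgroup.zpowers_le.mpr hs, fun v hv hvi => ?_⟩
    obtain ⟨n, rfl⟩ := (isOfFinOrder_of_finite s).mem_powers_iff_mem_zpowers.mpr hv
    obtain ⟨k, hk, e⟩ : ∃ k < 4, s ^ n = s ^ k := ⟨n % 4, Nat.mod_lt _ (by norm_num), by
      conv_lhs => rw [← Nat.div_add_mod n 4]
      rw [pow_add, pow_mul, hs4, one_pow, one_mul]⟩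
    change s ^ n = t
    change IsInv (s ^ n) at hvi
    rw [e] at hvi ⊢
    interval_cases k
    · exact absurd (pow_zero s) hvi.1
    · rw [pow_one] at hvi
      exact absurd (hst.symm.trans hvi.2) ht.1
    · rw [pow_two, hst]
    · refine absurd ?_ ht.1
      have h6 := hvi.2
      rw [← pow_add, show (3 : ℕ) + 3 = 4 + 2 from rfl, pow_add, hs4, one_mul, pow_two, hst] at h6
      exact h6
  obtain ⟨B₀, ⟨hB₀n, hsB₀, hB₀C, hB₀⟩, hmax⟩ := (Set.toFinite good).exists_maximal hne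
  haveI := hB₀n
  haveI := hC
  have hlt : B₀ < C := lt_of_le_of_ne hB₀C fun e => hat (hB₀ a (e ▸ haC) ha)
  obtain ⟨B, hBn, hB₀B, hBC, hcard⟩ := PGroupRankTwo.exists_normal_step hR hlt
  obtain ⟨u, huB, hu, hut⟩ : ∃ u ∈ B, IsInv u ∧ u ≠ t := by
    by_contra hno
    push Not at hno
    have h1 := Subgroup.card_le_of_le (hmax ⟨hBn, hsB₀.trans hB₀B, hBC, hno⟩ hB₀B)
    have h2 : 0 < Nat.card B₀ := Nat.card_pos
    omega
  refine ⟨u, hBC huB, hu, hut, fun g => ?_⟩
  set b := g * u * g⁻¹ with hb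
  have hbi : IsInv b := hu.conj g
  have hbB : b ∈ B := hBn.conj_mem u huB g
  have hbt : b ≠ t := fun e => hut (by
    rw [show u = g⁻¹ * b * g by rw [hb]; group, e, mul_assoc, ← (htc g).eq, inv_mul_cancel_left])
  have hidx : (B₀.subgroupOf B).index = 2 := by
    have h1 := (B₀.subgroupOf B).card_mul_index
    rw [Nat.card_congr (Subgroup.subgroupOfEquivOfLe hB₀B).toEquiv, hcard] at h1
    exact mul_left_cancel₀ Nat.card_pos.ne' h1
  have hd : b * u ∈ B₀ := by
    have h1 := (Subgroup.mul_mem_iff_of_index_two hidx (a := ⟨b, hbB⟩) (b := ⟨u, huB⟩)).mpr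
      (iff_of_false (fun h => hbt (hB₀ b h hbi)) fun h => hut (hB₀ u h hu))
    exact h1
  set d := b * u with hd'
  have hinv : u * d * u⁻¹ = d⁻¹ := by
    rw [hd', mul_inv_rev, hu.inv, hbi.inv]
    simp only [mul_assoc, hu.2, mul_one]
  obtain ⟨k, hk⟩ := IsPGroup.iff_orderOf.mp hR d
  rcases Nat.lt_or_ge k 2 with hk2 | hk2
  · interval_cases k
    · exact Or.inl ((mul_eq_one_iff_eq_inv.mp (orderOf_eq_one_iff.mp (by simpa using hk))).trans hu.inv)
    · refine Or.inr ?_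
      have h1 : d = t := hB₀ d hd ⟨fun e => by rw [e, orderOf_one] at hk; norm_num at hk, by
        rw [← pow_two]; exact orderOf_dvd_iff_pow_eq_one.mp (by rw [hk]; norm_num)⟩
      calc b = d * u := by rw [hd', mul_assoc, hu.2, mul_one]
        _ = u * t := by rw [h1, (htc u).eq]
  · exfalso
    set r := d ^ (2 ^ (k - 2)) with hr
    have hr4 : r ^ 4 = 1 := by
      rw [hr, ← pow_mul, show 2 ^ (k - 2) * 4 = 2 ^ k by
        rw [show (4 : ℕ) = 2 ^ 2 from rfl, ← pow_add, Nat.sub_add_cancel hk2], ← hk, pow_orderOf_eq_one]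
    have hr2 : r ^ 2 ≠ 1 := fun e => by
      rw [hr, ← pow_mul] at e
      have h1 := Nat.le_of_dvd (by positivity) (orderOf_dvd_of_pow_eq_one e)
      rw [hk, ← pow_succ, Nat.pow_le_pow_iff_right (by norm_num)] at h1
      omega
    have hrB : r ∈ B₀ := pow_mem hd _
    have hr2t : r * r = t := by
      rw [← pow_two]
      refine hB₀ _ (pow_mem hrB 2) ⟨hr2, ?_⟩
      rw [← pow_add]; exact hr4
    have hcs : Commute r s := hsc r (hB₀C hrB)
    have hrs : r * s = 1 ∨ r * s = t := by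
      by_cases h : r * s = 1
      · exact Or.inl h
      · exact Or.inr (hB₀ _ (mul_mem hrB (hsB₀ (Subgroup.mem_zpowers s))) ⟨h, by
          rw [hcs.symm.mul_mul_mul_comm, hr2t, hst, ht.2]⟩)
    have hur : Commute u r := by
      rcases hrs with e | e
      · rw [eq_inv_of_mul_eq_one_left e]
        exact (hsc u (hBC huB)).inv_right
      · rw [eq_mul_inv_of_mul_eq e]
        exact (htc u).mul_right (hsc u (hBC huB)).inv_right
    have h1 : u * r * u⁻¹ = r⁻¹ := by rw [hr, ← conj_pow, hinv, inv_pow]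
    rw [hur.eq, mul_inv_cancel_right] at h1
    exact ht.1 (hr2t.symm.trans (mul_eq_one_iff_eq_inv.mpr h1))

variable {X : Type u} [Group X] [Finite X] {H : Subgroup X} {P : Sylow 2 X} {t y s : X}

namespace Pt

variable (h : Pt H P t)
include h

/-- A 2-group containing a member of `H` lies in `H`. -/
theorem two_le {Q : Subgroup X} (hQ : IsPGroup 2 Q) {v : X} (hvQ : v ∈ Q) (hvH : v ∈ H) (hv : IsInv v)
    (hvt : v ≠ t) : Q ≤ H := by
  haveI : Fact (Nat.Prime 2) := ⟨Nat.prime_two⟩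
  by_contra hn
  haveI : Group.IsNilpotent ↥Q := hQ.isNilpotent
  obtain ⟨g, hg, hg'⟩ := SetLike.exists_of_lt (Group.normalizerCondition_of_isNilpotent (H.subgroupOf Q)
    (lt_top_iff_ne_top.mpr fun e => hn (Subgroup.subgroupOf_eq_top.mp e)))
  exact hg' (h.fix v hvH hv hvt g ((Subgroup.mem_normalizer_iff.mp hg ⟨v, hvQ⟩).mp hvH))

end Pt

/-- An element of square `t` fixing a second point, inverted by a member of `H`, with two members `a`, `b` of `H`
normalising `<s>`, `a` centralising it, that commute modulo `t` and whose product fixes one point of the orbit. -/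
structure World (H : Subgroup X) (t s : X) : Prop where
  mem : s ∈ H
  sq : s * s = t
  fix_two : ∃ g : X, g ∉ H ∧ g⁻¹ * s * g ∈ H
  invert : ∃ v ∈ H, IsInv v ∧ v ≠ t ∧ v * s * v⁻¹ = s⁻¹
  four : ∃ a ∈ H, ∃ b ∈ H, IsInv a ∧ a ≠ t ∧ Commute a s ∧ IsInv b ∧ b ≠ t ∧
    b ∈ Subgroup.normalizer (Subgroup.zpowers s : Set X) ∧ (b * a = a * b ∨ b * a = a * b * t) ∧
    ∀ g ∈ Subgroup.normalizer (Subgroup.zpowers s : Set X), g⁻¹ * (b * a) * g ∈ H → g ∈ H

/-- An element of square `t` fixing a second point, centralised by a member of `H`. -/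
structure Cent (H : Subgroup X) (t s : X) : Prop where
  mem : s ∈ H
  sq : s * s = t
  fix_two : ∃ g : X, g ∉ H ∧ g⁻¹ * s * g ∈ H
  member : ∃ a ∈ H, IsInv a ∧ a ≠ t ∧ Commute a s

theorem World.toCent (hW : World H t s) : Cent H t s := by
  obtain ⟨a, haH, -, -, ha, hat, has, -⟩ := hW.four
  exact ⟨hW.mem, hW.sq, hW.fix_two, a, haH, ha, hat, has⟩

/-- `t` in the normalizer of `<s>`. -/
def World.tN (h : Pt H P t) (s : X) : ↥(Subgroup.normalizer (Subgroup.zpowers s : Set X)) :=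
  ⟨t, Comp.mem_normalizer_of_maps fun a ha => by rwa [(h.central a).symm.eq, mul_inv_cancel_right]⟩

namespace Pt

variable (h : Pt H P t)
include h

theorem sq_zpowers {s : X} (hs : s * s = t) {x : X} (hx : x ∈ Subgroup.zpowers s) :
    x = 1 ∨ x = s ∨ x = t ∨ x = s * t := by
  obtain ⟨n, rfl⟩ := (isOfFinOrder_of_finite s).mem_powers_iff_mem_zpowers.mpr hx
  show s ^ n = 1 ∨ s ^ n = s ∨ s ^ n = t ∨ s ^ n = s * t
  clear hx
  induction n with
  | zero => exact Or.inl (pow_zero s)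
  | succ n ih =>
    rcases ih with e | e | e | e <;> rw [pow_succ, e]
    · exact Or.inr (Or.inl (one_mul s))
    · exact Or.inr (Or.inr (Or.inl hs))
    · exact Or.inr (Or.inr (Or.inr (h.central s).eq.symm))
    · exact Or.inl (by rw [mul_assoc, ← (h.central s).eq, ← mul_assoc, hs, h.inv.2])

theorem inv_eq_mul {s : X} (hs : s * s = t) : s⁻¹ = s * t := by
  refine inv_eq_of_mul_eq_one_right ?_
  rw [← mul_assoc, hs, h.inv.2]

/-- An element of the normalizer of `<s>` centralises or inverts `s`. -/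
theorem conj_eq {s x : X} (hs : s * s = t) (hx : x ∈ Subgroup.normalizer (Subgroup.zpowers s : Set X)) :
    x * s * x⁻¹ = s ∨ x * s * x⁻¹ = s * t := by
  have h1 : x * s * x⁻¹ ∈ Subgroup.zpowers s :=
    (Subgroup.mem_normalizer_iff.mp hx s).mp (Subgroup.mem_zpowers s)
  have hs2 : (x * s * x⁻¹) * (x * s * x⁻¹) = t := by
    calc (x * s * x⁻¹) * (x * s * x⁻¹) = x * (s * s) * x⁻¹ := by group
      _ = t := by rw [hs, (h.central x).eq, mul_inv_cancel_right]
  rcases h.sq_zpowers hs h1 with e | e | e | e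
  · rw [e, one_mul] at hs2; exact absurd hs2.symm h.inv.1
  · exact Or.inl e
  · rw [e, h.inv.2] at hs2; exact absurd hs2.symm h.inv.1
  · exact Or.inr e

theorem mem_normalizer {s x : X} (hs : s * s = t) (hx : x * s * x⁻¹ = s ∨ x * s * x⁻¹ = s * t) :
    x ∈ Subgroup.normalizer (Subgroup.zpowers s : Set X) := by
  haveI : Finite ↥(Subgroup.zpowers s) := inferInstance
  refine Comp.mem_normalizer_of_maps fun a ha => ?_
  obtain ⟨k, rfl⟩ := Subgroup.mem_zpowers_iff.mp ha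
  rw [← conj_zpow]
  refine zpow_mem ?_ k
  rcases hx with e | e <;> rw [e]
  · exact Subgroup.mem_zpowers s
  · rw [← h.inv_eq_mul hs]; exact inv_mem (Subgroup.mem_zpowers s)

/-- A member at a point fixed by `s` normalises `<s>`. -/
theorem exists_member_at {s : X} (hs : s * s = t) {g : X} (hg : g⁻¹ * s * g ∈ H) :
    ∃ v ∈ Subgroup.normalizer (Subgroup.zpowers s : Set X), IsInv v ∧ v ≠ t ∧ g⁻¹ * v * g ∈ H := by
  haveI : Fact (Nat.Prime 2) := ⟨Nat.prime_two⟩
  obtain ⟨y, hy⟩ := h.exists_y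
  have hs2 : IsPGroup 2 ↥(Subgroup.zpowers (g⁻¹ * s * g)) := by
    refine IsPGroup.iff_orderOf.mpr fun x => ?_
    obtain ⟨i, -, hi⟩ := (Nat.dvd_prime_pow Nat.prime_two).mp (orderOf_dvd_of_pow_eq_one (show x ^ 2 ^ 2 = 1 by
      obtain ⟨k, hk⟩ := Subgroup.mem_zpowers_iff.mp x.2
      have h4 : (g⁻¹ * s * g) ^ (4 : ℕ) = 1 := by
        rw [show (4 : ℕ) = 2 * 2 from rfl, pow_mul, pow_two (g⁻¹ * s * g), show g⁻¹ * s * g * (g⁻¹ * s * g) =
          g⁻¹ * (s * s) * g by group, hs, mul_assoc, ← (h.central g).eq, inv_mul_cancel_left, pow_two, h.inv.2]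
      refine Subtype.ext ?_
      show (x : X) ^ 2 ^ 2 = 1
      rw [← hk, ← zpow_natCast, ← zpow_mul, mul_comm, zpow_mul, zpow_natCast]
      norm_num [h4]))
    exact ⟨i, hi⟩
  obtain ⟨m, hm, hmP⟩ := Bender.Q.exists_conj_sylow h.P_le hs2 (Subgroup.zpowers_le.mpr hg)
  have hP : m * (g⁻¹ * s * g) * m⁻¹ ∈ (P : Subgroup X) := hmP _ (Subgroup.mem_zpowers _)
  refine ⟨(g * m⁻¹) * y * (g * m⁻¹)⁻¹, h.mem_normalizer hs ?_, hy.inv.conj _, h.ne_conj hy.ne _, ?_⟩
  · set k := g * m⁻¹ with hk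
    set s' := m * (g⁻¹ * s * g) * m⁻¹ with hs'
    have hks : k * s' * k⁻¹ = s := by rw [hk, hs']; group
    have hyy : y * s' * y⁻¹ = s' ∨ y * s' * y⁻¹ = s' * t := by
      rcases hy.conj s' hP with e | e
      · left
        rw [(show Commute s' y from mul_inv_eq_iff_eq_mul.mp e).symm.eq, mul_inv_cancel_right]
      · right
        have e' : s' * y = y * t * s' := mul_inv_eq_iff_eq_mul.mp e
        calc y * s' * y⁻¹ = y * (s' * y) := by rw [hy.inv.inv, mul_assoc]
          _ = y * (y * t * s') := by rw [e']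
          _ = (y * y) * (t * s') := by group
          _ = s' * t := by rw [hy.inv.2, one_mul, (h.central s').eq]
    rcases hyy with e | e
    · left
      calc k * y * k⁻¹ * s * (k * y * k⁻¹)⁻¹ = k * (y * (k⁻¹ * s * k) * y⁻¹) * k⁻¹ := by group
        _ = k * (y * s' * y⁻¹) * k⁻¹ := by rw [show k⁻¹ * s * k = s' by rw [← hks]; group]
        _ = s := by rw [e, hks]
    · right
      calc k * y * k⁻¹ * s * (k * y * k⁻¹)⁻¹ = k * (y * (k⁻¹ * s * k) * y⁻¹) * k⁻¹ := by group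
        _ = k * (y * s' * y⁻¹) * k⁻¹ := by rw [show k⁻¹ * s * k = s' by rw [← hks]; group]
        _ = (k * s' * k⁻¹) * (k * t * k⁻¹) := by rw [e]; group
        _ = s * t := by rw [hks, (h.central k).eq, mul_inv_cancel_right]
  · rw [show g⁻¹ * (g * m⁻¹ * y * (g * m⁻¹)⁻¹) * g = m⁻¹ * y * m by group]
    exact mul_mem (mul_mem (inv_mem hm) (h.P_le hy.mem)) hm

end Pt

namespace Cent

variable (h : Pt H P t) (hW : Cent H t s)
include h hW

local notation "N" => Subgroup.normalizer (Subgroup.zpowers s : Set X)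

/-- The normalizer moves the base point. -/
theorem exists_move : ∃ n ∈ N, n ∉ H := by
  obtain ⟨g, hgH, hg⟩ := hW.fix_two
  obtain ⟨v, hvN, hv, hvt, hvg⟩ := h.exists_member_at hW.sq hg
  exact ⟨v, hvN, fun hvH => hgH (inv_mem_iff.mp (h.fix v hvH hv hvt g⁻¹ (by simpa using hvg)))⟩

theorem s_mem : s ∈ N := Subgroup.le_normalizer (Subgroup.mem_zpowers s)

/-- Every 2-subgroup of `H ⊓ N` lies in a Sylow subgroup of `N` inside `H`. -/
theorem exists_sylow : ∃ P' : Sylow 2 ↥N, (P' : Subgroup ↥N) ≤ H.subgroupOf N := by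
  haveI : Fact (Nat.Prime 2) := ⟨Nat.prime_two⟩
  obtain ⟨a, haH, ha, hat, has⟩ := hW.member
  have haN : a ∈ N := h.mem_normalizer hW.sq (Or.inl (by rw [has.eq, mul_inv_cancel_right]))
  obtain ⟨P', hP'⟩ := ((CoreKill.zpowers_inv ha).comap_subtype (K := N)).exists_le_sylow
  exact ⟨P', fun x hx => h.two_le (P'.isPGroup'.map (Subgroup.subtype N))
    ⟨⟨a, haN⟩, hP' (Subgroup.mem_zpowers a), rfl⟩ haH ha hat ⟨x, hx, rfl⟩⟩

/-- The setting on the orbit of `N`. -/
theorem pt {P' : Sylow 2 ↥N} (hP' : (P' : Subgroup ↥N) ≤ H.subgroupOf N) :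
    Pt0 (H.subgroupOf N) P' (World.tN h s) := by
  refine ⟨fun e => ?_, hP', ⟨fun e => h.inv.1 (congrArg Subtype.val e), Subtype.ext h.inv.2⟩,
    fun x => Subtype.ext (h.central (x : X)).eq, fun v hv hvi hvt x hxv => ?_⟩
  · obtain ⟨n, hn, hnH⟩ := hW.exists_move h
    exact hnH (Subgroup.subgroupOf_eq_top.mp e hn)
  · exact h.fix (v : X) hv ⟨fun e => hvi.1 (Subtype.ext e), congrArg Subtype.val hvi.2⟩
      (fun e => hvt (Subtype.ext e)) (x : X) hxv

theorem s_mem_sylow (P' : Sylow 2 ↥N) : (⟨s, hW.s_mem h⟩ : ↥N) ∈ (P' : Subgroup ↥N) := by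
  haveI : Fact (Nat.Prime 2) := ⟨Nat.prime_two⟩
  set s' : ↥N := ⟨s, hW.s_mem h⟩
  haveI : (Subgroup.zpowers s').Normal := ⟨fun x hx g => by
    obtain ⟨k, rfl⟩ := Subgroup.mem_zpowers_iff.mp hx
    rw [← conj_zpow]
    refine zpow_mem ?_ k
    rcases h.conj_eq hW.sq g.2 with e | e
    · rw [show g * s' * g⁻¹ = s' from Subtype.ext e]; exact Subgroup.mem_zpowers s'
    · rw [show g * s' * g⁻¹ = s'⁻¹ from Subtype.ext (e.trans (h.inv_eq_mul hW.sq).symm)]
      exact inv_mem (Subgroup.mem_zpowers s')⟩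
  have h4 : orderOf s' ∣ 2 ^ 2 := orderOf_dvd_of_pow_eq_one (Subtype.ext (by
    show s ^ 2 ^ 2 = 1
    rw [show (2 : ℕ) ^ 2 = 2 * 2 from rfl, pow_mul, pow_two s, hW.sq, pow_two, h.inv.2]))
  obtain ⟨i, -, hi⟩ := (Nat.dvd_prime_pow Nat.prime_two).mp h4
  have hs2 : IsPGroup 2 ↥(Subgroup.zpowers s') := IsPGroup.of_card (n := i) (by rw [Nat.card_zpowers, hi])
  exact (P'.is_maximal' (hs2.to_sup_of_normal_left P'.isPGroup') le_sup_right).le
    (Subgroup.mem_sup_left (Subgroup.mem_zpowers s'))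

/-- `N` keeps the centralizer of `s`. -/
theorem conj_cent (k : ↥N) {z : X} (hz : Commute z s) : Commute ((k : X) * z * (k : X)⁻¹) s := by
  have key : ∀ r : X, Commute z r → r = (k : X)⁻¹ * s * (k : X) → Commute ((k : X) * z * (k : X)⁻¹) s := by
    intro r hr e
    show (k : X) * z * (k : X)⁻¹ * s = s * ((k : X) * z * (k : X)⁻¹)
    calc (k : X) * z * (k : X)⁻¹ * s = (k : X) * (z * r) * (k : X)⁻¹ := by rw [e]; group
      _ = (k : X) * (r * z) * (k : X)⁻¹ := by rw [hr.eq]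
      _ = s * ((k : X) * z * (k : X)⁻¹) := by rw [e]; group
  rcases h.conj_eq hW.sq (inv_mem k.2) with e | e
  · exact key s hz (e.symm.trans (by group))
  · exact key (s * t) (hz.mul_right (h.central z)) (e.symm.trans (by group))

/-- A small involution of `P'` centralising `s`. -/
theorem exists_y_cent {P' : Sylow 2 ↥N} (hP' : (P' : Subgroup ↥N) ≤ H.subgroupOf N) :
    ∃ y₁ : ↥N, IsY P' (World.tN h s) y₁ ∧ (y₁ : X) * s = s * y₁ := by
  haveI : Fact (Nat.Prime 2) := ⟨Nat.prime_two⟩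
  obtain ⟨a₀, haH, ha₀, hat₀, has₀⟩ := hW.member
  have haN : a₀ ∈ N := h.mem_normalizer hW.sq (Or.inl (by rw [has₀.eq, mul_inv_cancel_right]))
  have hsP := hW.s_mem_sylow h P'
  let a' : ↥N := ⟨a₀, haN⟩
  have ha' : IsInv a' := ⟨fun e => ha₀.1 (congrArg Subtype.val e), Subtype.ext ha₀.2⟩
  obtain ⟨m, -, hmP⟩ := Bender.Q.exists_conj_sylow hP' (CoreKill.zpowers_inv ha')
    (Subgroup.zpowers_le.mpr (show a' ∈ H.subgroupOf N from haH))
  set a := m * a' * m⁻¹
  have haP : a ∈ (P' : Subgroup ↥N) := hmP a' (Subgroup.mem_zpowers a')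
  have ha : IsInv a := ha'.conj m
  have hat : a ≠ World.tN h s := (hW.pt h hP').ne_conj (fun e => hat₀ (congrArg Subtype.val e)) m
  have has : (a : X) * s = s * a := (hW.conj_cent h m has₀).eq
  set C := ((Subgroup.centralizer ({s} : Set X)).subgroupOf N).subgroupOf (P' : Subgroup ↥N) with hC
  have hCn : C.Normal := ⟨fun x hx g => by
    refine Subgroup.mem_centralizer_singleton_iff.mpr ?_
    have hx' : ((x : ↥N) : X) * s = s * (x : ↥N) := Subgroup.mem_centralizer_singleton_iff.mp hx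
    exact (hW.conj_cent h (g : ↥N) hx').eq⟩
  have htP : World.tN h s ∈ (P' : Subgroup ↥N) := by
    have h1 := mul_mem hsP hsP
    rwa [show (⟨s, hW.s_mem h⟩ : ↥N) * ⟨s, hW.s_mem h⟩ = World.tN h s from Subtype.ext hW.sq] at h1
  let t'' : ↥(P' : Subgroup ↥N) := ⟨World.tN h s, htP⟩
  let s'' : ↥(P' : Subgroup ↥N) := ⟨⟨s, hW.s_mem h⟩, hsP⟩
  let a'' : ↥(P' : Subgroup ↥N) := ⟨a, haP⟩
  have hti : IsInv t'' :=
    ⟨fun e => h.inv.1 (congrArg (fun z : ↥(P' : Subgroup ↥N) => ((z : ↥N) : X)) e),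
      Subtype.ext (Subtype.ext h.inv.2)⟩
  have hsn : (Subgroup.zpowers s'').Normal := ⟨fun x hx g => by
    obtain ⟨k, rfl⟩ := Subgroup.mem_zpowers_iff.mp hx
    rw [← conj_zpow]
    refine zpow_mem ?_ k
    rcases h.conj_eq hW.sq (g : ↥N).2 with e | e
    · rw [show g * s'' * g⁻¹ = s'' from Subtype.ext (Subtype.ext e)]; exact Subgroup.mem_zpowers _
    · rw [show g * s'' * g⁻¹ = s''⁻¹ from Subtype.ext (Subtype.ext (e.trans (h.inv_eq_mul hW.sq).symm))]
      exact inv_mem (Subgroup.mem_zpowers _)⟩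
  obtain ⟨u, huC, hu, hut, hconj⟩ := exists_small (s := s'') (t := t'') (a := a'') P'.isPGroup' hCn hti
    (Subtype.ext (Subtype.ext hW.sq)) (Subgroup.mem_centralizer_singleton_iff.mpr rfl) hsn
    (fun g => Subtype.ext (Subtype.ext (h.central _).eq))
    (fun c hc => Subtype.ext (Subtype.ext (Subgroup.mem_centralizer_singleton_iff.mp hc)))
    (Subgroup.mem_centralizer_singleton_iff.mpr has)
    ⟨fun e => ha.1 (congrArg Subtype.val e), Subtype.ext ha.2⟩ (fun e => hat (congrArg Subtype.val e))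
  refine ⟨(u : ↥N), ⟨u.2, ⟨fun e => hu.1 (Subtype.ext e), congrArg Subtype.val hu.2⟩,
    fun e => hut (Subtype.ext e), fun x hx => ?_⟩, Subgroup.mem_centralizer_singleton_iff.mp huC⟩
  rcases hconj ⟨x, hx⟩ with e | e
  · exact Or.inl (congrArg Subtype.val e)
  · exact Or.inr (congrArg Subtype.val e)

theorem s_fix (c : ↥N ⧸ H.subgroupOf N) : (⟨s, hW.s_mem h⟩ : ↥N) • c = c := by
  induction c using QuotientGroup.induction_on with
  | _ g =>
    refine fix_iff.mpr ?_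
    show ((g : X))⁻¹ * s * (g : X) ∈ H
    rcases h.conj_eq hW.sq (inv_mem g.2) with e | e
    · rw [inv_inv] at e; rw [e]; exact hW.mem
    · rw [inv_inv] at e; rw [e]; exact mul_mem hW.mem h.t_mem

/-- No failure for a small involution centralising `s`. -/
theorem nf {P' : Sylow 2 ↥N} (hP' : (P' : Subgroup ↥N) ≤ H.subgroupOf N) {y₁ : ↥N}
    (hy : IsY P' (World.tN h s) y₁) (hc : (y₁ : X) * s = s * y₁) : NF (H.subgroupOf N) y₁ := by
  have hpt := hW.pt h hP'
  intro g g' hmove hsq c hcfix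
  set p := g * y₁ * g⁻¹ with hp
  set q := g' * y₁ * g'⁻¹ with hq
  have hpi : IsInv p := hy.inv.conj g
  have hqi : IsInv q := hy.inv.conj g'
  have hpt' : p ≠ World.tN h s := hpt.ne_conj hy.ne g
  have hqt' : q ≠ World.tN h s := hpt.ne_conj hy.ne g'
  set s' : ↥N := ⟨s, hW.s_mem h⟩
  have hcs : ∀ k : ↥N, Commute (k * y₁ * k⁻¹) s' := fun k => Subtype.ext (hW.conj_cent h k hc).eq
  have hcp : Commute p s' := hcs g
  have hcq : Commute q s' := hcs g'
  clear_value p q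
  obtain ⟨d, hd, -⟩ := hpt.one_fix hpi hpt'
  have hqd : q • d = d := by
    refine hpt.eq_of_fix hpi hpt' ?_ hd
    have h1 : (p * q) • d = (p * q)⁻¹ • d := eq_inv_smul_iff.mpr (by rw [← mul_smul]; exact hsq d)
    rw [mul_inv_rev p q, hqi.inv, hpi.inv, mul_smul, mul_smul, hd] at h1
    exact h1
  by_contra hne
  set w := p * q with hw
  have hwd : w • d = d := by rw [hw, mul_smul, hqd, hd]
  have hcd : c ≠ d := fun e => hne (e ▸ hd)
  have hws : Commute w s' := hcp.mul_left hcq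
  have hinvt : IsInv (World.tN h s) := hpt.inv
  -- the only involution fixing both points
  have hz : ∀ z : ↥N, IsInv z → z • c = c → z • d = d → z = World.tN h s := fun z hz hzc hzd => by
    by_contra hzt
    exact hcd (hpt.eq_of_fix hz hzt hzc hzd)
  have hpow : ∀ n : ℕ, w ^ n • c = c ∧ w ^ n • d = d := by
    intro n
    induction n with
    | zero => simp
    | succ n ih => exact ⟨by rw [pow_succ, mul_smul, hcfix, ih.1], by rw [pow_succ, mul_smul, hwd, ih.2]⟩
  have hk2 : ∀ (j : ℕ) (e : ↥N ⧸ H.subgroupOf N), (w * w) ^ j • e = e := by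
    intro j e
    induction j with
    | zero => simp
    | succ n ih => rw [pow_succ, mul_smul, hsq e, ih]
  set m := orderOf w with hm
  have hm0 : 0 < m := orderOf_pos w
  rcases Nat.even_or_odd m with ⟨l, hl⟩ | ⟨l, hl⟩
  swap
  · refine hmove fun e => ?_
    have hwe : w = (w * w) ^ (l + 1) := by
      rw [← pow_two, ← pow_mul, show 2 * (l + 1) = m + 1 by omega, pow_succ, pow_orderOf_eq_one, one_mul]
    show w • e = e
    rw [hwe]; exact hk2 _ e
  have hwl : w ^ l = World.tN h s := hz _ ⟨pow_ne_one_of_lt_orderOf (by omega) (by omega),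
    by rw [← pow_add, ← hl, pow_orderOf_eq_one]⟩ (hpow l).1 (hpow l).2
  rcases Nat.even_or_odd l with ⟨j, hj⟩ | ⟨j, hj⟩
  swap
  · refine hmove fun e => ?_
    have hwe : w = World.tN h s * ((w * w) ^ j)⁻¹ := by
      rw [eq_mul_inv_iff_mul_eq, ← hwl, ← pow_two, ← pow_mul, ← pow_succ', hj]
    show w • e = e
    rw [hwe, mul_smul, inv_smul_eq_iff.mpr (hk2 j e).symm, hpt.t_fix]
  set r := w ^ j with hr
  have hr2 : r * r = World.tN h s := by rw [hr, ← pow_add, ← hj, hwl]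
  have hs2 : s' * s' = World.tN h s := Subtype.ext hW.sq
  have hrs : Commute r s' := hws.pow_left j
  have hrs2 : r * s' * (r * s') = 1 := by rw [hrs.symm.mul_mul_mul_comm, hr2, hs2, hinvt.2]
  have hpr : p * r * p⁻¹ = r⁻¹ := by
    rw [hr, ← conj_pow, ← inv_pow]
    congr 1
    rw [hw, hpi.inv, mul_inv_rev p q, hqi.inv, hpi.inv, ← mul_assoc, hpi.2, one_mul]
  have hcomm : Commute p r := by
    by_cases h1 : r * s' = 1
    · rw [eq_inv_of_mul_eq_one_left h1]; exact hcp.inv_right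
    · rw [eq_mul_inv_of_mul_eq (hz _ ⟨h1, hrs2⟩ (by rw [mul_smul, hW.s_fix h, (hpow j).1])
        (by rw [mul_smul, hW.s_fix h, (hpow j).2]))]
      exact (hpt.central p).mul_right hcp.inv_right
  rw [hcomm.eq, mul_inv_cancel_right] at hpr
  exact hinvt.1 (hr2.symm.trans (mul_eq_one_iff_eq_inv.mpr hpr))

/-- The points fixed by `s` are those of the orbit of `N`. -/
theorem fix_orbit {g : X} (hg : g⁻¹ * s * g ∈ H) : ∃ n ∈ N, n⁻¹ * g ∈ H := by
  obtain ⟨v, hvN, hv, hvt, hvg⟩ := h.exists_member_at hW.sq hg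
  obtain ⟨P', hP'⟩ := hW.exists_sylow h
  obtain ⟨c, hc, -⟩ := (hW.pt h hP').one_fix (v := ⟨v, hvN⟩)
    ⟨fun e => hv.1 (congrArg Subtype.val e), Subtype.ext hv.2⟩ (fun e => hvt (congrArg Subtype.val e))
  induction c using QuotientGroup.induction_on with
  | _ n =>
    have h1 : (n : X)⁻¹ * v * (n : X) ∈ H := by
      have h0 := fix_iff.mp hc
      rw [Subgroup.mem_subgroupOf] at h0
      exact h0
    refine ⟨n, n.2, QuotientGroup.eq.mp (h.eq_of_fix hv hvt (c := ((n : X) : X ⧸ H)) (fix_iff.mpr h1)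
      (fix_iff.mpr hvg))⟩

end Cent

namespace World

variable (h : Pt H P t) (hW : World H t s)
include h hW

local notation "N" => Subgroup.normalizer (Subgroup.zpowers s : Set X)

/-- The normalizer moves the base point. -/
theorem exists_move : ∃ n ∈ N, n ∉ H := hW.toCent.exists_move h

theorem s_mem : s ∈ N := hW.toCent.s_mem h

/-- Some Sylow subgroup of `N` lies in `H`. -/
theorem exists_sylow : ∃ P' : Sylow 2 ↥N, (P' : Subgroup ↥N) ≤ H.subgroupOf N := hW.toCent.exists_sylow h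

/-- The setting on the orbit of `N`. -/
theorem pt {P' : Sylow 2 ↥N} (hP' : (P' : Subgroup ↥N) ≤ H.subgroupOf N) :
    Pt0 (H.subgroupOf N) P' (tN h s) := hW.toCent.pt h hP'

theorem s_mem_sylow (P' : Sylow 2 ↥N) : (⟨s, hW.s_mem h⟩ : ↥N) ∈ (P' : Subgroup ↥N) := hW.toCent.s_mem_sylow h P'

/-- `N` keeps the centralizer of `s`. -/
theorem conj_cent (k : ↥N) {z : X} (hz : Commute z s) : Commute ((k : X) * z * (k : X)⁻¹) s :=
  hW.toCent.conj_cent h k hz

/-- A small involution of `P'` centralising `s`. -/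
theorem exists_y_cent {P' : Sylow 2 ↥N} (hP' : (P' : Subgroup ↥N) ≤ H.subgroupOf N) :
    ∃ y₁ : ↥N, IsY P' (tN h s) y₁ ∧ (y₁ : X) * s = s * y₁ := hW.toCent.exists_y_cent h hP'

theorem s_fix (c : ↥N ⧸ H.subgroupOf N) : (⟨s, hW.s_mem h⟩ : ↥N) • c = c := hW.toCent.s_fix h c

/-- No failure for a small involution centralising `s`. -/
theorem nf {P' : Sylow 2 ↥N} (hP' : (P' : Subgroup ↥N) ≤ H.subgroupOf N) {y₁ : ↥N}
    (hy : IsY P' (tN h s) y₁) (hc : (y₁ : X) * s = s * y₁) : NF (H.subgroupOf N) y₁ := hW.toCent.nf h hP' hy hc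

/-- The points fixed by `s` are those of the orbit of `N`. -/
theorem fix_orbit {g : X} (hg : g⁻¹ * s * g ∈ H) : ∃ n ∈ N, n⁻¹ * g ∈ H := hW.toCent.fix_orbit h hg

/-- The frame of the orbit of `N`. -/
theorem frame {P' : Sylow 2 ↥N} (hP' : (P' : Subgroup ↥N) ≤ H.subgroupOf N) :
    ∃ L : Subgroup (Bender.Q.permGrp ↥N (↥N ⧸ H.subgroupOf N)), Frame (H.subgroupOf N) P' (tN h s) L := by
  haveI : Fact (Nat.Prime 2) := ⟨Nat.prime_two⟩
  have hpt := hW.pt h hP'
  obtain ⟨y₁, hy, hc⟩ := hW.exists_y_cent h hP'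
  obtain ⟨a₀, haH, b₀, hbH, ha₀, hat₀, has₀, hb₀, hbt₀, hbN, hab, hfix⟩ := hW.four
  have haN : a₀ ∈ N := h.mem_normalizer hW.sq (Or.inl (by rw [has₀.eq, mul_inv_cancel_right]))
  let a : ↥N := ⟨a₀, haN⟩
  let b : ↥N := ⟨b₀, hbN⟩
  have ha : IsInv a := ⟨fun e => ha₀.1 (congrArg Subtype.val e), Subtype.ext ha₀.2⟩
  have hb : IsInv b := ⟨fun e => hb₀.1 (congrArg Subtype.val e), Subtype.ext hb₀.2⟩
  -- the group on `a` and `b` is a 2-group
  have h4 : (b * a) ^ (4 : ℕ) = 1 := by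
    have h2 : (b * a) * (b * a) = 1 ∨ (b * a) * (b * a) = tN h s := by
      rcases hab with e | e
      · left
        refine Subtype.ext ?_
        show b₀ * a₀ * (b₀ * a₀) = 1
        nth_rw 1 [e]
        rw [mul_assoc, ← mul_assoc b₀, hb₀.2, one_mul, ha₀.2]
      · right
        refine Subtype.ext ?_
        show b₀ * a₀ * (b₀ * a₀) = t
        nth_rw 1 [e]
        rw [mul_assoc _ t, ← (h.central (b₀ * a₀)).eq, mul_assoc a₀, ← mul_assoc b₀, ← mul_assoc b₀, hb₀.2, one_mul,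
          ← mul_assoc, ha₀.2, one_mul]
    rw [show (4 : ℕ) = 2 * 2 from rfl, pow_mul, pow_two (b * a)]
    rcases h2 with e | e <;> rw [e]
    · exact one_pow 2
    · rw [pow_two, hpt.inv.2]
  have hU : IsPGroup 2 ↥(Subgroup.zpowers (b * a) ⊔ Subgroup.zpowers a) := by
    obtain ⟨i, -, hi⟩ := (Nat.dvd_prime_pow Nat.prime_two).mp
      (orderOf_dvd_of_pow_eq_one (show (b * a) ^ 2 ^ 2 = 1 from h4))
    refine (IsPGroup.of_card (n := i) (by rw [Nat.card_zpowers, hi])).to_sup_of_normal_left'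
      (CoreKill.zpowers_inv ha) (Subgroup.zpowers_le.mpr (Comp.mem_normalizer_of_maps fun z hz => ?_))
    obtain ⟨k, rfl⟩ := Subgroup.mem_zpowers_iff.mp hz
    rw [← conj_zpow]
    refine zpow_mem ?_ k
    rw [show a * (b * a) * a⁻¹ = (b * a)⁻¹ by rw [mul_inv_rev, ha.inv, hb.inv, mul_assoc, mul_assoc, ha.2, mul_one]]
    exact inv_mem (Subgroup.mem_zpowers _)
  obtain ⟨m, hmH, hmP⟩ := Bender.Q.exists_conj_sylow hP' hU (sup_le
    (Subgroup.zpowers_le.mpr (mul_mem (show b ∈ H.subgroupOf N from hbH) (show a ∈ H.subgroupOf N from haH)))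
    (Subgroup.zpowers_le.mpr (show a ∈ H.subgroupOf N from haH)))
  have haP : m * a * m⁻¹ ∈ (P' : Subgroup ↥N) := hmP _ (Subgroup.mem_sup_right (Subgroup.mem_zpowers a))
  have hbP : m * b * m⁻¹ ∈ (P' : Subgroup ↥N) := by
    have h1 := mul_mem (hmP _ (Subgroup.mem_sup_left (Subgroup.mem_zpowers (b * a)))) haP
    rwa [show m * (b * a) * m⁻¹ * (m * a * m⁻¹) = m * (b * (a * a)) * m⁻¹ by group, ha.2, mul_one] at h1
  -- images of members of `P'` commute with that of `y₁`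
  have hcomm : ∀ v ∈ (P' : Subgroup ↥N), Commute (img (H.subgroupOf N) v) (img (H.subgroupOf N) y₁) := by
    intro v hv
    rcases hy.conj v hv with e | e
    · exact (show Commute v y₁ from mul_inv_eq_iff_eq_mul.mp e).map _
    · show img (H.subgroupOf N) v * img (H.subgroupOf N) y₁ = img (H.subgroupOf N) y₁ * img (H.subgroupOf N) v
      rw [← map_mul, mul_inv_eq_iff_eq_mul.mp e, map_mul, map_mul, hpt.img_t, mul_one]
  by_cases hay : img (H.subgroupOf N) (m * a * m⁻¹) = img (H.subgroupOf N) y₁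
  · refine hpt.exists_frame hy (hW.nf h hP' hy hc) hbP (hb.conj m)
      (hpt.ne_conj (fun e => hbt₀ (congrArg Subtype.val e)) m) ?_ (hcomm _ hbP) fun c hcfix => ?_
    · intro e
      obtain ⟨c, hc'⟩ := hpt.exists_ne_base
      refine hc' ?_
      induction c using QuotientGroup.induction_on with
      | _ g =>
        have h1 : img (H.subgroupOf N) (m * (b * a) * m⁻¹) = 1 := by
          rw [show m * (b * a) * m⁻¹ = m * b * m⁻¹ * (m * a * m⁻¹) by group, map_mul, hay, e,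
            (hpt.img_inv hy.inv hy.ne).2]
        have h2 := Bender.Q.permImg_eq_one.mp h1 ((g : ↥N) : ↥N ⧸ H.subgroupOf N)
        have h3 : (m⁻¹ * g)⁻¹ * (b * a) * (m⁻¹ * g) ∈ H.subgroupOf N := by
          have := fix_iff.mp h2
          rwa [show g⁻¹ * (m * (b * a) * m⁻¹) * g = (m⁻¹ * g)⁻¹ * (b * a) * (m⁻¹ * g) by group] at this
        have h4 : m⁻¹ * g ∈ H.subgroupOf N := hfix _ (m⁻¹ * g).2 h3
        refine QuotientGroup.eq.mpr ?_
        have h5 := mul_mem hmH h4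
        rw [mul_inv_cancel_left] at h5
        simpa using h5
    · induction c using QuotientGroup.induction_on with
      | _ g =>
        have h2 : (m * (b * a) * m⁻¹) • ((g : ↥N) : ↥N ⧸ H.subgroupOf N) = ((g : ↥N) : ↥N ⧸ H.subgroupOf N) := by
          rw [← img_smul, show m * (b * a) * m⁻¹ = m * b * m⁻¹ * (m * a * m⁻¹) by group, map_mul, hay, ← map_mul]
          exact hcfix
        have h3 : (m⁻¹ * g)⁻¹ * (b * a) * (m⁻¹ * g) ∈ H.subgroupOf N := by
          have := fix_iff.mp h2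
          rwa [show g⁻¹ * (m * (b * a) * m⁻¹) * g = (m⁻¹ * g)⁻¹ * (b * a) * (m⁻¹ * g) by group] at this
        have h5 := mul_mem hmH (show m⁻¹ * g ∈ H.subgroupOf N from hfix _ (m⁻¹ * g).2 h3)
        rw [mul_inv_cancel_left] at h5
        exact QuotientGroup.eq.mpr (by simpa using h5)
  · refine hpt.exists_frame hy (hW.nf h hP' hy hc) haP (ha.conj m)
      (hpt.ne_conj (fun e => hat₀ (congrArg Subtype.val e)) m) hay (hcomm _ haP) fun c hcfix => ?_
    set a' := m * a * m⁻¹ with ha'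
    set w := a' * y₁ with hw
    set s' : ↥N := ⟨s, hW.s_mem h⟩
    have hws : Commute w s' :=
      (show Commute a' s' from Subtype.ext (hW.conj_cent h m has₀).eq).mul_left (Subtype.ext hc)
    have hw1 : ∀ z : ↥N, z • c = c → IsInv z → z ≠ tN h s → z ∈ H.subgroupOf N → c = base (H.subgroupOf N) :=
      fun z hzc hz hzt hzH => hpt.eq_of_fix hz hzt hzc (fix_base.mpr hzH)
    have hwH : w ∈ H.subgroupOf N := mul_mem (hP' haP) (hP' hy.mem)
    have himg : img (H.subgroupOf N) w ≠ 1 := fun e => hay (by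
      rw [hw, map_mul] at e
      exact (mul_eq_one_iff_eq_inv.mp e).trans (hpt.img_inv hy.inv hy.ne).inv)
    rcases hy.conj a' haP with e | e
    · refine hw1 w hcfix ⟨fun e1 => himg (by rw [e1, map_one]), ?_⟩ (fun e1 => himg (by rw [e1, hpt.img_t])) hwH
      rw [hw, (show Commute a' y₁ from mul_inv_eq_iff_eq_mul.mp e).symm.mul_mul_mul_comm, (ha.conj m).2, hy.inv.2,
        one_mul]
    · have hw2 : w * w = tN h s := by
        have e' : a' * y₁ = y₁ * tN h s * a' := mul_inv_eq_iff_eq_mul.mp e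
        rw [hw]
        nth_rw 1 [e']
        calc y₁ * tN h s * a' * (a' * y₁) = y₁ * tN h s * (a' * a') * y₁ := by group
          _ = y₁ * y₁ * tN h s := by rw [(ha.conj m).2, mul_one, mul_assoc, ← (hpt.central y₁).eq, ← mul_assoc]
          _ = tN h s := by rw [hy.inv.2, one_mul]
      have hws1 : img (H.subgroupOf N) (w * s') = img (H.subgroupOf N) w := by
        rw [map_mul, Bender.Q.permImg_eq_one.mpr (hW.s_fix h), mul_one]
      refine hw1 (w * s') (by rw [mul_smul, hW.s_fix h, hcfix]) ⟨fun e1 => himg (by rw [← hws1, e1, map_one]), ?_⟩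
        (fun e1 => himg (by rw [← hws1, e1, hpt.img_t])) (mul_mem hwH (show s' ∈ H.subgroupOf N from hW.mem))
      rw [hws.symm.mul_mul_mul_comm, hw2, show s' * s' = tN h s from Subtype.ext hW.sq, hpt.inv.2]

/-- The quaternion outcome in the normalizer of `<s>`. -/
theorem quat {P' : Sylow 2 ↥N} (hP' : (P' : Subgroup ↥N) ≤ H.subgroupOf N) :
    ∃ C : Subgroup ↥N, Quat (H.subgroupOf N) P' (tN h s) (kerR (H.subgroupOf N) P') C := by
  haveI : Fact (Nat.Prime 2) := ⟨Nat.prime_two⟩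
  obtain ⟨L, hL⟩ := hW.frame h hP'
  obtain ⟨v, hvH, hv, hvt, hvs⟩ := hW.invert
  have hvN : v ∈ N := h.mem_normalizer hW.sq (Or.inr (hvs.trans (h.inv_eq_mul hW.sq)))
  let v' : ↥N := ⟨v, hvN⟩
  have hv' : IsInv v' := ⟨fun e => hv.1 (congrArg Subtype.val e), Subtype.ext hv.2⟩
  obtain ⟨m, -, hmP⟩ := Bender.Q.exists_conj_sylow hP' (CoreKill.zpowers_inv hv')
    (Subgroup.zpowers_le.mpr (show v' ∈ H.subgroupOf N from hvH))
  set s' : ↥N := ⟨s, hW.s_mem h⟩
  set a := m * v' * m⁻¹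
  have hms : m⁻¹ * s' * m = s' ∨ m⁻¹ * s' * m = s'⁻¹ := by
    rcases h.conj_eq hW.sq (inv_mem m.2) with e | e
    · exact Or.inl (Subtype.ext (by simpa using e))
    · refine Or.inr (Subtype.ext ?_)
      rw [inv_inv] at e
      show (m : X)⁻¹ * s * (m : X) = s⁻¹
      rw [e, h.inv_eq_mul hW.sq]
  have hvs' : v' * s' * v'⁻¹ = s'⁻¹ := Subtype.ext hvs
  have has : a * s' * a⁻¹ = s'⁻¹ := by
    have e1 : a * s' * a⁻¹ = m * (v' * (m⁻¹ * s' * m) * v'⁻¹) * m⁻¹ := by simp only [a]; group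
    rw [e1]
    rcases hms with e | e <;> rw [e]
    · rw [hvs']
      calc m * s'⁻¹ * m⁻¹ = m * (m⁻¹ * s' * m)⁻¹ * m⁻¹ := by rw [e]
        _ = s'⁻¹ := by group
    · rw [show v' * s'⁻¹ * v'⁻¹ = (v' * s' * v'⁻¹)⁻¹ by group, hvs', inv_inv]
      calc m * s' * m⁻¹ = m * (m⁻¹ * s' * m)⁻¹ * m⁻¹ := by rw [e, inv_inv]
        _ = s'⁻¹ := by group
  exact hL.quat (hv'.conj m) ((hW.pt h hP').ne_conj (fun e => hvt (congrArg Subtype.val e)) m)
    (hmP v' (Subgroup.mem_zpowers v'))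
    ⟨hW.s_mem_sylow h P', img_mem_core.mp (Bender.Q.permImg_eq_one.mpr (hW.s_fix h))⟩ (Subtype.ext hW.sq) has

end World

namespace Pt

variable (h : Pt H P t)
include h

/-- In `P`, a small `u` and a member `v` not commuting with it, where `v` has no commuting member but `v t`: an
element `c` of square `t` commuting with both whose class modulo `<t, u>` is fixed by a member `b` commuting with `u`. -/
theorem exists_twisted {u v : X} (hy : IsY P t u) (hvP : v ∈ (P : Subgroup X)) (hv : IsInv v) (hnc : ¬ Commute v u)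
    (hno : ∀ a ∈ (P : Subgroup X), IsInv a → Commute a v → a = t ∨ a = v ∨ a = v * t) :
    ∃ c ∈ (P : Subgroup X), c * c = t ∧ Commute c v ∧ Commute c u ∧ ∃ b ∈ (P : Subgroup X), IsInv b ∧
      b ≠ u ∧ b ≠ u * t ∧ b ≠ t ∧ Commute b u ∧
      (b * c * b⁻¹ = c ∨ b * c * b⁻¹ = c * t ∨ b * c * b⁻¹ = c * u ∨ b * c * b⁻¹ = c * (u * t)) := by
  haveI : Fact (Nat.Prime 2) := ⟨Nat.prime_two⟩
  obtain ⟨b, hbP, hb, hbt, hbu, hbut, hbc⟩ := h.exists_partner hy
  obtain ⟨huP, hu, hut, hsmall⟩ := hy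
  have hvu : v * u * v⁻¹ = u * t := (hsmall v hvP).resolve_left fun e => hnc (mul_inv_eq_iff_eq_mul.mp e)
  obtain ⟨U, -, -, -, htU, huU, hU⟩ := CoreKill.pair_group h.inv hu (Ne.symm hut) (h.central u).symm
  set U₀ : Subgroup ↥(P : Subgroup X) := U.subgroupOf (P : Subgroup X)
  set C₀ : Subgroup ↥(P : Subgroup X) := (Subgroup.centralizer ({u} : Set X)).subgroupOf (P : Subgroup X)
  have hPU : ∀ (g : X), g ∈ (P : Subgroup X) → ∀ x ∈ U, g * x * g⁻¹ ∈ U := by
    intro g hg x hx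
    have hcu : g * u * g⁻¹ ∈ U := by
      rcases hsmall g hg with e | e <;> rw [e]
      · exact huU
      · exact U.mul_mem huU htU
    rcases hU x hx with rfl | rfl | rfl | rfl
    · simp
    · rw [(h.central g).eq, mul_inv_cancel_right]; exact htU
    · exact hcu
    · rw [show g * (t * u) * g⁻¹ = g * t * g⁻¹ * (g * u * g⁻¹) by group, (h.central g).eq, mul_inv_cancel_right]
      exact U.mul_mem htU hcu
  haveI : U₀.Normal := ⟨fun x hx g => hPU g g.2 x hx⟩
  have hUC : ∀ x ∈ U, Commute x u := by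
    intro x hx
    rcases hU x hx with rfl | rfl | rfl | rfl
    · exact Commute.one_left u
    · exact (h.central u).symm
    · exact Commute.refl _
    · exact (h.central u).symm.mul_left (Commute.refl _)
  haveI hC₀ : C₀.Normal := ⟨fun x hx g => by
    have hxu : Commute (x : X) u := Subgroup.mem_centralizer_singleton_iff.mp hx
    refine Subgroup.mem_centralizer_singleton_iff.mpr ?_
    show ((g : X) * x * (g : X)⁻¹) * u = u * ((g : X) * x * (g : X)⁻¹)
    have hxu' : Commute (x : X) ((g : X)⁻¹ * u * g) := by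
      rcases hsmall _ (inv_mem g.2) with e | e
      · rw [inv_inv] at e; rw [e]; exact hxu
      · rw [inv_inv] at e; rw [e]; exact hxu.mul_right (h.central _)
    calc ((g : X) * x * (g : X)⁻¹) * u = g * ((x : X) * ((g : X)⁻¹ * u * g)) * (g : X)⁻¹ := by group
      _ = g * (((g : X)⁻¹ * u * g) * x) * (g : X)⁻¹ := by rw [hxu'.eq]
      _ = u * ((g : X) * x * (g : X)⁻¹) := by group⟩
  have hle : U₀ ≤ C₀ := fun x hx => Subgroup.mem_centralizer_singleton_iff.mpr (hUC x hx)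
  have hbU : b ∉ U := by
    intro hb'
    rcases hU b hb' with e | e | e | e
    · exact hb.1 e
    · exact hbt e
    · exact hbu e
    · exact hbut (e.trans (h.central u).eq.symm)
  have hlt : U₀ < C₀ := lt_of_le_of_ne hle fun e => hbU
    (e.ge (show (⟨b, hbP⟩ : ↥(P : Subgroup X)) ∈ C₀ from Subgroup.mem_centralizer_singleton_iff.mpr hbc))
  obtain ⟨L, hLn, hUL, hLC, hcard⟩ := PGroupRankTwo.exists_normal_step P.isPGroup' hlt
  have hidx : (U₀.subgroupOf L).index = 2 := by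
    have h1 := (U₀.subgroupOf L).card_mul_index
    rw [Nat.card_congr (Subgroup.subgroupOfEquivOfLe hUL).toEquiv, hcard] at h1
    exact mul_left_cancel₀ Nat.card_pos.ne' h1
  obtain ⟨c₀, hc₀L, hc₀U⟩ : ∃ c ∈ L, c ∉ U₀ := by
    by_contra hno'
    push Not at hno'
    have h1 := Subgroup.card_le_of_le hno'
    have h2 : 0 < Nat.card U₀ := Nat.card_pos
    omega
  have hprod : ∀ x y : ↥(P : Subgroup X), x ∈ L → y ∈ L → x ∉ U₀ → y ∉ U₀ → (x : X) * y ∈ U := fun x y hx hy hx' hy' =>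
    (Subgroup.mul_mem_iff_of_index_two hidx (a := ⟨x, hx⟩) (b := ⟨y, hy⟩)).mpr (iff_of_false hx' hy')
  -- the conjugate of an element outside differs from it by an element of `U`
  have hstep : ∀ (x : ↥(P : Subgroup X)), x ∈ L → x ∉ U₀ → ∀ g : X, g ∈ (P : Subgroup X) →
      g * (x : X) * g⁻¹ = (x : X) ∨ g * (x : X) * g⁻¹ = (x : X) * t ∨ g * (x : X) * g⁻¹ = (x : X) * u ∨
        g * (x : X) * g⁻¹ = (x : X) * (u * t) := by
    intro x hx hx' g hg
    set y : ↥(P : Subgroup X) := ⟨g, hg⟩ * x * ⟨g, hg⟩⁻¹ with hy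
    have hy' : y ∉ U₀ := fun e => hx' (by
      have h1 : g⁻¹ * (y : X) * g⁻¹⁻¹ ∈ U := hPU g⁻¹ (inv_mem hg) _ e
      rw [show g⁻¹ * (y : X) * g⁻¹⁻¹ = (x : X) by
        show g⁻¹ * (g * (x : X) * g⁻¹) * g⁻¹⁻¹ = x
        group] at h1
      exact h1)
    have h1 := hprod x⁻¹ y (inv_mem hx) (hLn.conj_mem x hx _) (fun e => hx' (inv_mem_iff.mp e)) hy'
    rcases hU _ h1 with e | e | e | e <;>
      have e' : g * (x : X) * g⁻¹ = (x : X) * _ := (inv_mul_eq_iff_eq_mul.mp e)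
    · exact Or.inl (e'.trans (mul_one _))
    · exact Or.inr (Or.inl e')
    · exact Or.inr (Or.inr (Or.inl e'))
    · exact Or.inr (Or.inr (Or.inr (e'.trans (by rw [(h.central u).eq]))))
  have hLu : ∀ x : ↥(P : Subgroup X), x ∈ L → Commute (x : X) u := fun x hx =>
    Subgroup.mem_centralizer_singleton_iff.mp (hLC hx)
  -- adjust to commute with `v`
  obtain ⟨c, hcL, hcU, hcv⟩ : ∃ c ∈ L, c ∉ U₀ ∧ Commute (c : X) v := by
    have htwice : ∀ e : X, v * (c₀ : X) * v⁻¹ = c₀ * e → v * e * v⁻¹ = e * t → e * e = 1 → False := by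
      intro e h1 h2 h3
      apply h.inv.1
      have h4 : v * (v * (c₀ : X) * v⁻¹) * v⁻¹ = c₀ * t := by
        rw [h1, show v * ((c₀ : X) * e) * v⁻¹ = (v * c₀ * v⁻¹) * (v * e * v⁻¹) by group, h1, h2,
          show (c₀ : X) * e * (e * t) = c₀ * (e * e) * t by group, h3, mul_one]
      rw [show v * (v * (c₀ : X) * v⁻¹) * v⁻¹ = v * v * c₀ * (v * v)⁻¹ by group, hv.2, one_mul, inv_one, mul_one] at h4
      exact mul_eq_left.mp h4.symm
    rcases hstep c₀ hc₀L hc₀U v hvP with e | e | e | e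
    · exact ⟨c₀, hc₀L, hc₀U, (mul_inv_eq_iff_eq_mul.mp e : v * c₀ = c₀ * v).symm⟩
    · have hu' : (⟨u, huP⟩ : ↥(P : Subgroup X)) ∈ U₀ := huU
      refine ⟨c₀ * ⟨u, huP⟩, mul_mem hc₀L (hUL hu'), fun h1 => hc₀U ((Subgroup.mul_mem_cancel_right _ hu').mp h1), ?_⟩
      refine Commute.symm (mul_inv_eq_iff_eq_mul.mp ?_ : v * ((c₀ : X) * u) = _)
      calc v * ((c₀ : X) * u) * v⁻¹ = (v * c₀ * v⁻¹) * (v * u * v⁻¹) := by group
        _ = c₀ * (t * u) * t := by rw [e, hvu]; group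
        _ = c₀ * u := by rw [← (h.central u).eq, mul_assoc, mul_assoc u, h.inv.2, mul_one]
    · exact (htwice u e hvu hu.2).elim
    · refine (htwice (u * t) e ?_ ?_).elim
      · rw [show v * (u * t) * v⁻¹ = v * u * v⁻¹ * (v * t * v⁻¹) by group, hvu, (h.central v).eq, mul_inv_cancel_right]
      · rw [(h.central u).symm.mul_mul_mul_comm, hu.2, h.inv.2, one_mul]
  have hcu := hLu c hcL
  have hc2 : (c : X) * c = 1 ∨ (c : X) * c = t := by
    have hcc : Commute ((c : X) * c) v := hcv.mul_left hcv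
    rcases hU _ (hprod c c hcL hcL hcU hcU) with e | e | e | e
    · exact Or.inl e
    · exact Or.inr e
    · exact absurd (e ▸ hcc).symm hnc
    · refine absurd ?_ hnc
      have h1 := (h.central v).symm.mul_left (e ▸ hcc : Commute (t * u) v)
      rw [← mul_assoc, h.inv.2, one_mul] at h1
      exact h1.symm
  have hc2' : (c : X) * c = t := hc2.resolve_left fun e => by
    have hci : IsInv (c : X) := ⟨fun e1 => hcU (by rw [show c = 1 from Subtype.ext e1]; exact one_mem _), e⟩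
    rcases hno _ c.2 hci hcv with e1 | e1 | e1
    · exact hcU (show (c : X) ∈ U by rw [e1]; exact htU)
    · exact hnc (e1 ▸ hcu)
    · have h1 := (e1 ▸ hcu : Commute (v * t) u).mul_left (h.central u).symm
      rw [mul_assoc, h.inv.2, mul_one] at h1
      exact hnc h1
  exact ⟨c, c.2, hc2', hcv, hcu, b, hbP, hb, hbu, hbut, hbt, hbc, hstep c hcL hcU b hbP⟩

/-- Two members of `P`, one of them small, whose product has square `t` and fixes a second point, normalise a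
world. -/
theorem world_of_small {u v : X} (huP : u ∈ (P : Subgroup X)) (hu : IsInv u) (hut : u ≠ t)
    (hsmall : ∀ x ∈ (P : Subgroup X), x * u * x⁻¹ = u ∨ x * u * x⁻¹ = u * t) (hvP : v ∈ (P : Subgroup X))
    (hv : IsInv v) (hvt : v ≠ t) (hsq : u * v * (u * v) = t)
    (hfix : ∃ g : X, g ∉ H ∧ g⁻¹ * (u * v) * g ∈ H) :
    ∃ s, World H t s ∧ u ∈ Subgroup.normalizer (Subgroup.zpowers s : Set X) ∧
      v ∈ Subgroup.normalizer (Subgroup.zpowers s : Set X) := by
  have hnc : ¬ Commute v u := fun hc => h.inv.1 (by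
    rw [← hsq, hc.mul_mul_mul_comm, hu.2, hv.2, one_mul])
  have hvr : v * (u * v) * v⁻¹ = (u * v)⁻¹ := by
    rw [mul_inv_rev, hu.inv, hv.inv, ← mul_assoc, mul_assoc (v * u), hv.2, mul_one]
  have hur : u * (u * v) * u⁻¹ = (u * v)⁻¹ := by
    rw [mul_inv_rev, hu.inv, hv.inv, ← mul_assoc, hu.2, one_mul]
  have hNr : ∀ {x : X}, x * (u * v) * x⁻¹ = (u * v)⁻¹ →
      x ∈ Subgroup.normalizer (Subgroup.zpowers (u * v) : Set X) := fun e =>
    h.mem_normalizer hsq (Or.inr (e.trans (h.inv_eq_mul hsq)))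
  have hvu : v * u * v⁻¹ = u * t :=
    (hsmall v hvP).resolve_left fun e3 => hnc (mul_inv_eq_iff_eq_mul.mp e3)
  have hinvert : ∃ w ∈ H, IsInv w ∧ w ≠ t ∧ w * (u * v) * w⁻¹ = (u * v)⁻¹ := ⟨v, h.P_le hvP, hv, hvt, hvr⟩
  by_cases hA : ∃ a ∈ (P : Subgroup X), IsInv a ∧ Commute a v ∧ a ≠ t ∧ a ≠ v ∧ a ≠ v * t
  · obtain ⟨b₁, hb₁P, hb₁, hb₁v, hb₁n⟩ := hA
    -- an element commuting with `v` outside `<t, v>` centralising `u`
    obtain ⟨a, haP, ha, han, hau, hav⟩ : ∃ a ∈ (P : Subgroup X), IsInv a ∧ (a ≠ t ∧ a ≠ v ∧ a ≠ v * t) ∧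
        Commute a u ∧ Commute a v := by
      rcases hsmall b₁ hb₁P with e | e
      · exact ⟨b₁, hb₁P, hb₁, hb₁n, mul_inv_eq_iff_eq_mul.mp e, hb₁v⟩
      · refine ⟨b₁ * v, mul_mem hb₁P hvP, ⟨fun e1 => hb₁n.2.1 ?_, ?_⟩, ⟨fun e1 => hb₁n.2.2 ?_, fun e1 => hb₁.1 ?_,
          fun e1 => hb₁n.1 ?_⟩, ?_, hb₁v.mul_left (Commute.refl v)⟩
        · rw [eq_inv_of_mul_eq_one_left e1, hv.inv]
        · rw [hb₁v.symm.mul_mul_mul_comm, hb₁.2, hv.2, one_mul]
        · rw [(h.central v).eq, ← e1, mul_assoc, hv.2, mul_one]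
        · exact mul_eq_right.mp e1
        · exact mul_right_cancel (e1.trans (h.central v).eq)
        · refine mul_inv_eq_iff_eq_mul.mp ?_
          calc b₁ * v * u * (b₁ * v)⁻¹ = b₁ * (v * u * v⁻¹) * b₁⁻¹ := by group
            _ = (b₁ * u * b₁⁻¹) * (b₁ * t * b₁⁻¹) := by rw [hvu]; group
            _ = u * (t * t) := by rw [e, (h.central b₁).eq, mul_inv_cancel_right, mul_assoc]
            _ = u := by rw [h.inv.2, mul_one]
    refine ⟨u * v, ⟨mul_mem (h.P_le huP) (h.P_le hvP), hsq, hfix, hinvert, a, h.P_le haP, v, h.P_le hvP, ha, han.1,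
      hau.mul_right hav, hv, hvt, hNr hvr, Or.inl hav.symm.eq, fun g _ hg => ?_⟩, hNr hur, hNr hvr⟩
    have hva : IsInv (v * a) := ⟨fun e => han.2.1 ((eq_inv_of_mul_eq_one_right e).trans hv.inv),
      by rw [hav.mul_mul_mul_comm, hv.2, ha.2, one_mul]⟩
    have hvat : v * a ≠ t := fun e => han.2.2 (by rw [← e, ← mul_assoc, hv.2, one_mul])
    exact inv_mem_iff.mp (h.fix (v * a) (mul_mem (h.P_le hvP) (h.P_le haP)) hva hvat g⁻¹ (by simpa using hg))
  push Not at hA
  obtain ⟨c, hcP, hc2, hcv, hcu, b, hbP, hb, hbu, hbut, hbt, hbc, hbcc⟩ := h.exists_twisted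
    ⟨huP, hu, hut, hsmall⟩ hvP hv hnc fun a haP ha hav => or_iff_not_imp_left.mpr fun h1 =>
      or_iff_not_imp_left.mpr (hA a haP ha hav h1)
  have hcr : Commute c (u * v) := hcu.mul_right hcv
  set a := u * v * c with ha_def
  have ha : IsInv a := by
    refine ⟨fun e => hnc ?_, by rw [ha_def, hcr.mul_mul_mul_comm, hsq, hc2, h.inv.2]⟩
    have e1 : u * v = c⁻¹ := eq_inv_of_mul_eq_one_left e
    have h1 : Commute u (u * v) := e1 ▸ hcu.symm.inv_right
    have h2 : Commute u (u * (u * v)) := (Commute.refl u).mul_right h1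
    rw [← mul_assoc, hu.2, one_mul] at h2
    exact h2.symm
  have hat : a ≠ t := fun e => hnc (by
    have e1 : u * v = t * c⁻¹ := eq_mul_inv_of_mul_eq e
    have h1 : Commute u (u * v) := e1 ▸ (h.central u).mul_right hcu.symm.inv_right
    have h2 : Commute u (u * (u * v)) := (Commute.refl u).mul_right h1
    rw [← mul_assoc, hu.2, one_mul] at h2
    exact h2.symm)
  have hva : v * a = a * v * t := by
    have e2 : v * u = u * t * v := mul_inv_eq_iff_eq_mul.mp hvu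
    calc v * a = v * u * (v * c) := by rw [ha_def]; group
      _ = u * t * (v * (v * c)) := by rw [e2]; group
      _ = u * t * (v * c * v) := by rw [mul_assoc v c v, hcv.eq]
      _ = u * (t * (v * c * v)) := by rw [mul_assoc]
      _ = u * (v * c * v * t) := by rw [← (h.central _).eq]
      _ = a * v * t := by rw [ha_def]; group
  by_cases hgood : ∀ g ∈ Subgroup.normalizer (Subgroup.zpowers (u * v) : Set X), g⁻¹ * (v * a) * g ∈ H → g ∈ H
  · exact ⟨u * v, ⟨mul_mem (h.P_le huP) (h.P_le hvP), hsq, hfix, hinvert, a,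
      h.P_le (mul_mem (mul_mem huP hvP) hcP), v, h.P_le hvP, ha, hat, (Commute.refl _).mul_left hcr, hv, hvt,
      hNr hvr, Or.inr hva, hgood⟩, hNr hur, hNr hvr⟩
  push Not at hgood
  obtain ⟨g, -, hg, hgH⟩ := hgood
  have hconjt : ∀ {g x : X}, g⁻¹ * x * g ∈ H → g⁻¹ * (x * t) * g ∈ H := fun {g x} hx => by
    rw [show g⁻¹ * (x * t) * g = (g⁻¹ * x * g) * (g⁻¹ * t * g) by group, (h.central g⁻¹).eq, inv_mul_cancel_right]
    exact mul_mem hx (h.P_le h.t_mem_P)
  -- `u c` fixes a second point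
  have hgc : g⁻¹ * (u * c) * g ∈ H := by
    have h1 := hconjt hg
    rwa [show v * a * t = u * c by
      rw [ha_def, show v * (u * v * c) * t = (v * u) * v * c * t by group, mul_inv_eq_iff_eq_mul.mp hvu,
        mul_assoc (u * t), hv.2, mul_one, mul_assoc (u * t), (h.central c).eq, ← mul_assoc (u * t), mul_assoc u,
        h.inv.2, mul_one]] at h1
  rcases (show (b * c * b⁻¹ = c ∨ b * c * b⁻¹ = c * t) ∨ ((b * c * b⁻¹ = c * u ∨ b * c * b⁻¹ = c * (u * t)) ∧
      g⁻¹ * (b * c * b⁻¹) * g ∈ H) by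
    rcases hbcc with e | e | e | e
    · exact Or.inl (Or.inl e)
    · exact Or.inl (Or.inr e)
    · exact Or.inr ⟨Or.inl e, by rw [e, hcu.eq]; exact hgc⟩
    · exact Or.inr ⟨Or.inr e, by rw [e, show c * (u * t) = u * c * t by rw [← mul_assoc, hcu.eq]]; exact hconjt hgc⟩)
    with hbc₁ | ⟨hbc₂, hbc'⟩
  · -- the world `u c`
    have hsq' : u * c * (u * c) = t := by rw [hcu.mul_mul_mul_comm, hu.2, hc2, one_mul]
    refine ⟨u * c, ⟨mul_mem (h.P_le huP) (h.P_le hcP), hsq', ⟨g, hgH, hgc⟩, ⟨v, h.P_le hvP, hv, hvt, ?_⟩,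
      u, h.P_le huP, b, h.P_le hbP, hu, hut, (Commute.refl u).mul_right hcu.symm, hb, hbt,
      h.mem_normalizer hsq' ?_, Or.inl hbc.eq, fun g' _ hg' => ?_⟩,
      h.mem_normalizer hsq' (Or.inl ?_), h.mem_normalizer hsq' (Or.inr ?_)⟩
    · rw [h.inv_eq_mul hsq', show v * (u * c) * v⁻¹ = (v * u * v⁻¹) * (v * c * v⁻¹) by group, hvu, hcv.symm.eq,
        mul_inv_cancel_right, mul_assoc, ← (h.central c).eq, ← mul_assoc]
    · have e1 : b * u * b⁻¹ = u := mul_inv_eq_iff_eq_mul.mpr hbc.eq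
      rw [show b * (u * c) * b⁻¹ = (b * u * b⁻¹) * (b * c * b⁻¹) by group, e1]
      rcases hbc₁ with e | e <;> rw [e]
      · exact Or.inl rfl
      · exact Or.inr (mul_assoc _ _ _).symm
    · have hbu' : IsInv (b * u) := ⟨fun e1 => hbu ((eq_inv_of_mul_eq_one_left e1).trans hu.inv),
        by rw [hbc.symm.mul_mul_mul_comm, hb.2, hu.2, one_mul]⟩
      exact inv_mem_iff.mp (h.fix (b * u) (mul_mem (h.P_le hbP) (h.P_le huP)) hbu'
        (fun e1 => hbut (by rw [(h.central u).eq, ← e1, mul_assoc, hu.2, mul_one])) g'⁻¹ (by simpa using hg'))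
    · rw [((Commute.refl u).mul_right hcu.symm).eq, mul_inv_cancel_right]
    · rw [show v * (u * c) * v⁻¹ = (v * u * v⁻¹) * (v * c * v⁻¹) by group, hvu, hcv.symm.eq,
        mul_inv_cancel_right, mul_assoc, ← (h.central c).eq, ← mul_assoc]
  · -- the world `c`
    refine ⟨c, ⟨h.P_le hcP, hc2, ⟨b⁻¹ * g, fun hbg => hgH ?_, ?_⟩, ⟨b * v * b⁻¹,
      mul_mem (mul_mem (h.P_le hbP) (h.P_le hvP)) (inv_mem (h.P_le hbP)), hv.conj b, h.ne_conj hvt b, ?_⟩,
      u, h.P_le huP, v, h.P_le hvP, hu, hut, hcu.symm, hv, hvt,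
      h.mem_normalizer hc2 (Or.inl (by rw [hcv.symm.eq, mul_inv_cancel_right])), Or.inr ?_, fun g' hg' hg'' => ?_⟩,
      h.mem_normalizer hc2 (Or.inl (by rw [hcu.symm.eq, mul_inv_cancel_right])),
      h.mem_normalizer hc2 (Or.inl (by rw [hcv.symm.eq, mul_inv_cancel_right]))⟩
    · have := mul_mem (h.P_le hbP) hbg
      rwa [mul_inv_cancel_left] at this
    · rw [show (b⁻¹ * g)⁻¹ * c * (b⁻¹ * g) = g⁻¹ * (b * c * b⁻¹) * g by group]
      exact hbc'
    · rw [h.inv_eq_mul hc2]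
      have e1 : b * v * b⁻¹ * (b * c * b⁻¹) * (b * v * b⁻¹)⁻¹ = b * c * b⁻¹ := by
        rw [show b * v * b⁻¹ * (b * c * b⁻¹) * (b * v * b⁻¹)⁻¹ = b * (v * c * v⁻¹) * b⁻¹ by group, hcv.symm.eq,
          mul_inv_cancel_right]
      have e2 : b * v * b⁻¹ * (u * t) * (b * v * b⁻¹)⁻¹ = u := by
        rw [show b * v * b⁻¹ * (u * t) * (b * v * b⁻¹)⁻¹
            = (b * (v * (b⁻¹ * u * b) * v⁻¹) * b⁻¹) * ((b * v * b⁻¹) * t * (b * v * b⁻¹)⁻¹) by group,
          show b⁻¹ * u * b = u by rw [mul_assoc, ← hbc.eq, inv_mul_cancel_left], hvu, (h.central (b * v * b⁻¹)).eq,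
          mul_inv_cancel_right, show b * (u * t) * b⁻¹ = b * u * b⁻¹ * (b * t * b⁻¹) by group, hbc.eq,
          mul_inv_cancel_right, (h.central b).eq, mul_inv_cancel_right, mul_assoc, h.inv.2, mul_one]
      set w := b * v * b⁻¹ with hw
      have e3 : ∀ z : X, (z = u ∨ z = u * t) → w * (c * z) * w⁻¹ = c * z → w * c * w⁻¹ = c * t := by
        intro z hz h1
        have hz' : w * z * w⁻¹ = z * t := by
          rcases hz with hz | hz <;> subst z
          · have h2 : w * u * w⁻¹ * (w * t * w⁻¹) = u :=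
              (by group : w * u * w⁻¹ * (w * t * w⁻¹) = w * (u * t) * w⁻¹).trans e2
            rw [(h.central w).eq, mul_inv_cancel_right] at h2
            exact (eq_mul_inv_of_mul_eq h2).trans (by rw [h.inv.inv])
          · rw [e2, mul_assoc, h.inv.2, mul_one]
        have h2 : w * c * w⁻¹ * (z * t) = c * z := by
          rw [← hz']
          exact (by group : w * c * w⁻¹ * (w * z * w⁻¹) = w * (c * z) * w⁻¹).trans h1
        rw [eq_mul_inv_of_mul_eq h2, mul_inv_rev, h.inv.inv, ← mul_assoc, mul_assoc c z t, (h.central z).eq]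
        group
      rcases hbc₂ with e | e <;> rw [e] at e1
      · exact e3 u (Or.inl rfl) e1
      · exact e3 (u * t) (Or.inr rfl) e1
    · calc v * u = u * t * v := mul_inv_eq_iff_eq_mul.mp hvu
        _ = u * v * t := by rw [mul_assoc, mul_assoc, ← (h.central v).eq]
    · have h1 : g'⁻¹ * c * g' ∈ H := by
        have h2 := h.conj_eq hc2 (inv_mem hg')
        rw [inv_inv] at h2
        rcases h2 with e1 | e1 <;> rw [e1]
        · exact h.P_le hcP
        · exact mul_mem (h.P_le hcP) (h.P_le h.t_mem_P)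
      have h2 : g'⁻¹ * (u * v) * g' ∈ H := by
        have := inv_mem hg''
        rwa [show (g'⁻¹ * (v * u) * g')⁻¹ = g'⁻¹ * (u⁻¹ * v⁻¹) * g' by group, hu.inv, hv.inv] at this
      have h3 : g'⁻¹ * a * g' ∈ H := by
        have := mul_mem h2 h1
        rwa [show g'⁻¹ * (u * v) * g' * (g'⁻¹ * c * g') = g'⁻¹ * a * g' by rw [ha_def]; group] at this
      exact inv_mem_iff.mp (h.fix a (h.P_le (mul_mem (mul_mem huP hvP) hcP)) ha hat g'⁻¹ (by simpa using h3))

/-- A member of `P` inverting an element of square `t` of `P` that fixes a second point normalises a world. -/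
theorem world_of_inverted (hy : IsY P t y) {p₀ r : X} (hp0P : p₀ ∈ (P : Subgroup X))
    (hrP : r ∈ (P : Subgroup X)) (hp0 : IsInv p₀) (hp0t : p₀ ≠ t) (hr2 : r * r = t)
    (hinv : p₀ * r * p₀⁻¹ = r⁻¹) {g₁ : X} (hg₁ : g₁ ∉ H) (hrg : g₁⁻¹ * r * g₁ ∈ H) :
    ∃ s, World H t s ∧ p₀ ∈ Subgroup.normalizer (Subgroup.zpowers s : Set X) := by
  obtain ⟨hyP, hyi, hyne, hyc⟩ := hy
  obtain ⟨q₀, hq₀⟩ : ∃ q₀ : X, q₀ = p₀ * r := ⟨_, rfl⟩
  have hq0P : q₀ ∈ (P : Subgroup X) := hq₀ ▸ mul_mem hp0P hrP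
  have hrne : r⁻¹ ≠ r := fun e => h.inv.1 (hr2.symm.trans (by nth_rw 1 [← e]; rw [inv_mul_cancel]))
  have hq0 : IsInv q₀ := by
    refine ⟨fun e => hrne ?_, ?_⟩
    · rw [← hinv, eq_inv_of_mul_eq_one_left (hq₀.symm.trans e), inv_inv, mul_assoc, inv_mul_cancel_left]
    · calc q₀ * q₀ = (p₀ * r * p₀⁻¹) * (p₀ * p₀ * r) := by rw [hq₀]; group
        _ = 1 := by rw [hinv, hp0.2, one_mul, inv_mul_cancel]
  have hq0t : q₀ ≠ t := fun e => hrne (by
    have h1 : p₀ = t * r⁻¹ := eq_mul_inv_of_mul_eq (hq₀.symm.trans e)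
    rw [← hinv, h1, mul_inv_rev, inv_inv, h.inv.inv, mul_assoc t, inv_mul_cancel, mul_one, ← mul_assoc,
      ← (h.central r).eq, mul_assoc, h.inv.2, mul_one])
  -- a small one among `p₀`, `q₀` closes
  have hclose : ∀ u v : X, u ∈ (P : Subgroup X) → IsInv u → u ≠ t → v ∈ (P : Subgroup X) → IsInv v → v ≠ t →
      (u * v = r ∨ u * v = r⁻¹) → (u = y ∨ u = y * t) → (p₀ = u ∨ p₀ = v) →
      ∃ s, World H t s ∧ p₀ ∈ Subgroup.normalizer (Subgroup.zpowers s : Set X) := by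
    intro u v huP hu hut hvP hv hvt huv huy hpuv
    refine (h.world_of_small huP hu hut (fun x hx => ?_) hvP hv hvt ?_ ⟨g₁, hg₁, ?_⟩).imp fun s hs =>
      ⟨hs.1, ?_⟩
    rotate_left 3
    · rcases hpuv with rfl | rfl
      · exact hs.2.1
      · exact hs.2.2
    · rcases huy with rfl | rfl
      · exact hyc x hx
      · rw [show x * (y * t) * x⁻¹ = (x * y * x⁻¹) * (x * t * x⁻¹) by group, (h.central x).eq,
          mul_inv_cancel_right]
        rcases hyc x hx with e | e <;> rw [e]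
        · exact Or.inl rfl
        · exact Or.inr rfl
    · rcases huv with e | e <;> rw [e]
      · exact hr2
      · rw [← mul_inv_rev, hr2, h.inv.inv]
    · rcases huv with e | e <;> rw [e]
      · exact hrg
      · rw [show g₁⁻¹ * r⁻¹ * g₁ = (g₁⁻¹ * r * g₁)⁻¹ by group]
        exact inv_mem hrg
  -- the patterns of `y`
  have hprod : ∀ {u : X}, u = y ∨ u = y * t → Commute u r → Commute y r := by
    rintro u (rfl | rfl) hc
    · exact hc
    · have := hc.mul_left (h.central r).symm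
      rwa [mul_assoc, h.inv.2, mul_one] at this
  have hmem : y ∈ H := h.P_le hyP
  by_cases hyr : Commute y r
  · by_cases hfix : ∃ g₂ : X, g₂ ∉ H ∧ g₂⁻¹ * (y * p₀) * g₂ ∈ H ∧ ¬ Commute p₀ y
    · obtain ⟨g₂, hg₂, hg₂', hnc⟩ := hfix
      refine (h.world_of_small hyP hyi hyne hyc hp0P hp0 hp0t ?_ ⟨g₂, hg₂, hg₂'⟩).imp fun s hs => ⟨hs.1, hs.2.2⟩
      have e := (hyc p₀ hp0P).resolve_left fun e => hnc (mul_inv_eq_iff_eq_mul.mp e)
      rw [hp0.inv] at e
      calc y * p₀ * (y * p₀) = y * (p₀ * y * p₀) := by group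
        _ = t := by rw [e, ← mul_assoc, hyi.2, one_mul]
    push Not at hfix
    refine ⟨r, ⟨h.P_le hrP, hr2, ⟨g₁, hg₁, hrg⟩, ⟨p₀, h.P_le hp0P, hp0, hp0t, hinv⟩, y, hmem, p₀, h.P_le hp0P,
      hyi, hyne, hyr, hp0, hp0t, h.mem_normalizer hr2 (Or.inr (hinv.trans (h.inv_eq_mul hr2))), ?_, ?_⟩,
      h.mem_normalizer hr2 (Or.inr (hinv.trans (h.inv_eq_mul hr2)))⟩
    · rcases hyc p₀ hp0P with e | e
      · exact Or.inl (mul_inv_eq_iff_eq_mul.mp e)
      · refine Or.inr ((mul_inv_eq_iff_eq_mul.mp e).trans ?_)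
        rw [mul_assoc, ← (h.central p₀).eq, ← mul_assoc]
    · intro g₂ _ hg₂
      by_contra hg₂H
      by_cases hc : Commute p₀ y
      · have hi : IsInv (p₀ * y) := ⟨fun e => hrne (by
            rw [← hinv, (eq_inv_of_mul_eq_one_left e).trans hyi.inv, hyr.eq, mul_inv_cancel_right]),
          by rw [hc.symm.mul_mul_mul_comm, hp0.2, hyi.2, one_mul]⟩
        have hit : p₀ * y ≠ t := fun e => hrne (by
          have h1 : p₀ = t * y⁻¹ := eq_mul_inv_of_mul_eq e
          rw [← hinv, h1, hyi.inv]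
          have h2 : Commute (t * y) r := (h.central r).symm.mul_left hyr
          rw [h2.eq, mul_inv_cancel_right])
        exact hg₂H (inv_mem_iff.mp (h.fix _ (mul_mem (h.P_le hp0P) hmem) hi hit g₂⁻¹ (by simpa using hg₂)))
      · refine hc (hfix g₂ hg₂H ?_)
        rw [show g₂⁻¹ * (y * p₀) * g₂ = (g₂⁻¹ * (p₀ * y) * g₂)⁻¹ by
          rw [show g₂⁻¹ * (y * p₀) * g₂ = g₂⁻¹ * (y⁻¹ * p₀⁻¹) * g₂ by rw [hyi.inv, hp0.inv]]; group]
        exact inv_mem hg₂
  · -- `y` inverts `r`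
    have hyr' : y * r * y⁻¹ = r⁻¹ := by
      have e := (hyc r hrP).resolve_left fun e => hyr (mul_inv_eq_iff_eq_mul.mp e).symm
      have e' : r * y = y * t * r := mul_inv_eq_iff_eq_mul.mp e
      rw [hyi.inv, mul_assoc, e', h.inv_eq_mul hr2]
      calc y * (y * t * r) = y * y * (t * r) := by group
        _ = r * t := by rw [hyi.2, one_mul, (h.central r).eq]
    -- one of `p₀`, `q₀` commutes with `y`
    have key : ∀ u : X, u ∈ (P : Subgroup X) → IsInv u → u ≠ t → u * r * u⁻¹ = r⁻¹ →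
        (u = p₀ ∨ u = q₀) → Commute y u →
        ∃ s, World H t s ∧ p₀ ∈ Subgroup.normalizer (Subgroup.zpowers s : Set X) := by
      intro u huP hu hut hur hpq hc
      by_cases huy : u = y ∨ u = y * t
      · rcases hpq with rfl | e
        · exact hclose u q₀ huP hu hut hq0P hq0 hq0t (Or.inl (by rw [hq₀, ← mul_assoc, hu.2, one_mul])) huy (Or.inl rfl)
        · refine hclose u p₀ huP hu hut hp0P hp0 hp0t (Or.inr ?_) huy (Or.inr rfl)
          rw [e, hq₀, ← hinv, hp0.inv]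
      push Not at huy
      have hyu : IsInv (y * u) := ⟨fun e => huy.1 ((eq_inv_of_mul_eq_one_right e).trans hyi.inv),
        by rw [hc.symm.mul_mul_mul_comm, hyi.2, hu.2, one_mul]⟩
      have hyut : y * u ≠ t := fun e => huy.2 (by rw [← e, ← mul_assoc, hyi.2, one_mul])
      refine ⟨r, ⟨h.P_le hrP, hr2, ⟨g₁, hg₁, hrg⟩, ⟨p₀, h.P_le hp0P, hp0, hp0t, hinv⟩, y * u,
        mul_mem hmem (h.P_le huP), u, h.P_le huP, hyu, hyut, ?_, hu, hut,
        h.mem_normalizer hr2 (Or.inr (hur.trans (h.inv_eq_mul hr2))), Or.inl ?_, fun g₂ _ hg₂ => ?_⟩,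
        h.mem_normalizer hr2 (Or.inr (hinv.trans (h.inv_eq_mul hr2)))⟩
      · refine mul_inv_eq_iff_eq_mul.mp ?_
        calc y * u * r * (y * u)⁻¹ = y * (u * r * u⁻¹) * y⁻¹ := by group
          _ = (y * r * y⁻¹)⁻¹ := by rw [hur]; group
          _ = r := by rw [hyr', inv_inv]
      · rw [hc.eq, ← mul_assoc, hu.2, one_mul, mul_assoc, hc.eq, ← mul_assoc, hu.2, one_mul]
      · rw [show u * (y * u) = y by rw [hc.eq, ← mul_assoc, hu.2, one_mul]] at hg₂
        exact inv_mem_iff.mp (h.fix y hmem hyi hyne g₂⁻¹ (by simpa using hg₂))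
    rcases hyc p₀ hp0P with e | e
    · exact key p₀ hp0P hp0 hp0t hinv (Or.inl rfl) (mul_inv_eq_iff_eq_mul.mp e).symm
    · refine key q₀ hq0P hq0 hq0t ?_ (Or.inr rfl) ?_
      · rw [hq₀, show p₀ * r * r * (p₀ * r)⁻¹ = p₀ * r * p₀⁻¹ by group, hinv]
      · refine (mul_inv_eq_iff_eq_mul.mp ?_ : Commute q₀ y).symm
        have e2 : r * y * r⁻¹ = y * t :=
          (hyc r hrP).resolve_left fun e2 => hyr (mul_inv_eq_iff_eq_mul.mp e2).symm
        calc q₀ * y * q₀⁻¹ = p₀ * (r * y * r⁻¹) * p₀⁻¹ := by rw [hq₀]; group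
          _ = (p₀ * y * p₀⁻¹) * (p₀ * t * p₀⁻¹) := by rw [e2]; group
          _ = y := by rw [e, (h.central p₀).eq, mul_inv_cancel_right, mul_assoc, h.inv.2, mul_one]


/-- A failure gives a world. -/
theorem exists_world (hy : IsY P t y) (hNF : ¬ NF H y) : ∃ s, World H t s := by
  haveI : Fact (Nat.Prime 2) := ⟨Nat.prime_two⟩
  simp only [NF, not_forall] at hNF
  obtain ⟨g, g', hmove', hsq, c, hcfix, hne⟩ := hNF
  obtain ⟨e₀, hmove⟩ := hmove'
  set p := g * y * g⁻¹ with hp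
  set q := g' * y * g'⁻¹ with hq
  have hpi : IsInv p := hy.inv.conj g
  have hqi : IsInv q := hy.inv.conj g'
  have hpt' : p ≠ t := h.ne_conj hy.ne g
  have hpd : p • ((g : X) : X ⧸ H) = ((g : X) : X ⧸ H) :=
    fix_iff.mpr (by rw [hp, show g⁻¹ * (g * y * g⁻¹) * g = y by group]; exact h.P_le hy.mem)
  clear_value p q
  set d : X ⧸ H := ((g : X) : X ⧸ H) with hd
  have hqd : q • d = d := by
    refine h.eq_of_fix hpi hpt' ?_ hpd
    have h1 : (p * q) • d = (p * q)⁻¹ • d := eq_inv_smul_iff.mpr (by rw [← mul_smul]; exact hsq d)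
    rw [mul_inv_rev p q, hqi.inv, hpi.inv, mul_smul, mul_smul, hpd] at h1
    exact h1
  set w := p * q with hw
  have hwd : w • d = d := by rw [hw, mul_smul, hqd, hpd]
  have hcd : c ≠ d := fun e => hne (e ▸ hpd)
  have hz : ∀ z : X, IsInv z → z • c = c → z • d = d → z = t := fun z hz hzc hzd => by
    by_contra hzt
    exact hcd (h.eq_of_fix hz hzt hzc hzd)
  have hpow : ∀ n : ℕ, w ^ n • c = c ∧ w ^ n • d = d := by
    intro n
    induction n with
    | zero => simp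
    | succ n ih => exact ⟨by rw [pow_succ, mul_smul, hcfix, ih.1], by rw [pow_succ, mul_smul, hwd, ih.2]⟩
  have hk2 : ∀ (j : ℕ) (e : X ⧸ H), (w * w) ^ j • e = e := by
    intro j e
    induction j with
    | zero => simp
    | succ n ih => rw [pow_succ, mul_smul, hsq e, ih]
  set m := orderOf w with hm
  have hm0 : 0 < m := orderOf_pos w
  rcases Nat.even_or_odd m with ⟨l, hl⟩ | ⟨l, hl⟩
  swap
  · refine absurd ?_ hmove
    have hwe : w = (w * w) ^ (l + 1) := by
      rw [← pow_two, ← pow_mul, show 2 * (l + 1) = m + 1 by omega, pow_succ, pow_orderOf_eq_one, one_mul]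
    rw [hwe]; exact hk2 _ e₀
  have hwl : w ^ l = t := hz _ ⟨pow_ne_one_of_lt_orderOf (by omega) (by omega),
    by rw [← pow_add, ← hl, pow_orderOf_eq_one]⟩ (hpow l).1 (hpow l).2
  rcases Nat.even_or_odd l with ⟨j, hj⟩ | ⟨j, hj⟩
  swap
  · refine absurd ?_ hmove
    have hwe : w = t * ((w * w) ^ j)⁻¹ := by
      rw [eq_mul_inv_iff_mul_eq, ← hwl, ← pow_two, ← pow_mul, ← pow_succ', hj]
    rw [hwe, mul_smul, inv_smul_eq_iff.mpr (hk2 j e₀).symm, h.t_fix]
  -- move `p` and `r` into `P`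
  obtain ⟨p₀, r, hp0P, hrP, hp0, hp0t, hr2, hinv, g₁, hg₁, hrg⟩ : ∃ p₀ r : X, p₀ ∈ (P : Subgroup X) ∧
      r ∈ (P : Subgroup X) ∧ IsInv p₀ ∧ p₀ ≠ t ∧ r * r = t ∧ p₀ * r * p₀⁻¹ = r⁻¹ ∧
      ∃ g₁ : X, g₁ ∉ H ∧ g₁⁻¹ * r * g₁ ∈ H := by
    set r₀ := w ^ j with hr₀
    have hr2 : r₀ * r₀ = t := by rw [hr₀, ← pow_add, ← hj, hwl]
    have hinv : p * r₀ * p⁻¹ = r₀⁻¹ := by
      rw [hr₀, ← conj_pow, ← inv_pow]
      congr 1
      rw [hw, hpi.inv, mul_inv_rev p q, hqi.inv, hpi.inv, ← mul_assoc, hpi.2, one_mul]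
    set p' := g⁻¹ * p * g with hp'
    set r' := g⁻¹ * r₀ * g with hr'
    have hr'2 : r' * r' = t := by
      rw [hr', show g⁻¹ * r₀ * g * (g⁻¹ * r₀ * g) = g⁻¹ * (r₀ * r₀) * g by group, hr2, mul_assoc,
        ← (h.central g).eq, inv_mul_cancel_left]
    have hp'H : p' ∈ H := fix_iff.mp hpd
    have hr'H : r' ∈ H := fix_iff.mp (hpow j).2
    have hinv' : p' * r' * p'⁻¹ = r'⁻¹ := by
      calc p' * r' * p'⁻¹ = g⁻¹ * (p * r₀ * p⁻¹) * g := by rw [hp', hr']; group
        _ = r'⁻¹ := by rw [hinv, hr']; group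
    have hpi' : IsInv p' := by simpa [hp'] using hpi.conj g⁻¹
    have hU : IsPGroup 2 ↥(Subgroup.zpowers r' ⊔ Subgroup.zpowers p') := by
      obtain ⟨i, -, hi⟩ := (Nat.dvd_prime_pow Nat.prime_two).mp
        (orderOf_dvd_of_pow_eq_one (show r' ^ 2 ^ 2 = 1 by
          rw [show (2 : ℕ) ^ 2 = 2 * 2 from rfl, pow_mul, pow_two r', hr'2, pow_two, h.inv.2]))
      refine (IsPGroup.of_card (n := i) (by rw [Nat.card_zpowers, hi])).to_sup_of_normal_left'
        (CoreKill.zpowers_inv hpi') (Subgroup.zpowers_le.mpr (Comp.mem_normalizer_of_maps fun z hz => ?_))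
      obtain ⟨k, rfl⟩ := Subgroup.mem_zpowers_iff.mp hz
      rw [← conj_zpow, hinv']
      exact zpow_mem (inv_mem (Subgroup.mem_zpowers r')) k
    obtain ⟨n, hn, hnP⟩ := Bender.Q.exists_conj_sylow h.P_le hU
      (sup_le (Subgroup.zpowers_le.mpr hr'H) (Subgroup.zpowers_le.mpr hp'H))
    induction c using QuotientGroup.induction_on with
    | _ g₂ =>
      refine ⟨n * p' * n⁻¹, n * r' * n⁻¹, hnP _ (Subgroup.mem_sup_right (Subgroup.mem_zpowers p')),
        hnP _ (Subgroup.mem_sup_left (Subgroup.mem_zpowers r')), hpi'.conj n,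
        h.ne_conj (fun e => hpt' ?_) n, ?_, ?_, n * g⁻¹ * g₂, fun hc => hcd ?_, ?_⟩
      · rw [show p = g * p' * g⁻¹ by rw [hp']; group, e, (h.central g).eq, mul_inv_cancel_right]
      · rw [show n * r' * n⁻¹ * (n * r' * n⁻¹) = n * (r' * r') * n⁻¹ by group, hr'2, (h.central n).eq,
          mul_inv_cancel_right]
      · calc n * p' * n⁻¹ * (n * r' * n⁻¹) * (n * p' * n⁻¹)⁻¹ = n * (p' * r' * p'⁻¹) * n⁻¹ := by group
          _ = (n * r' * n⁻¹)⁻¹ := by rw [hinv']; group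
      · refine (QuotientGroup.eq.mpr ?_).symm
        have h1 := mul_mem (inv_mem hn) hc
        rwa [show n⁻¹ * (n * g⁻¹ * g₂) = g⁻¹ * g₂ by group] at h1
      · rw [show (n * g⁻¹ * g₂)⁻¹ * (n * r' * n⁻¹) * (n * g⁻¹ * g₂) = g₂⁻¹ * r₀ * g₂ by rw [hr']; group]
        exact fix_iff.mp (hpow j).1
  obtain ⟨s₀, hs₀, -⟩ := h.world_of_inverted hy hp0P hrP hp0 hp0t hr2 hinv hg₁ hrg
  exact ⟨s₀, hs₀⟩

end Pt

end CfsgLib.CoreKill.Local
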